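import Groth.Agent.L23.BigSite.BaseChange
import Groth.Agent.L28.Sites.MultiFlat
import Groth.Agent.L02.An.LanFlat
import Groth.Agent.L15.ExtZero.ExtAdj
import Groth.Agent.L10.KInjTransfer
import Groth.Prelude.Def_EtCore
import Mathlib.CategoryTheory.Abelian.RightDerived

/-!
# Exactness properties of big site functors
-/

universe u

open CategoryTheory Limits AlgebraicGeometry Opposite

set_option backward.isDefEq.respectTransparency.types false
set_option linter.style.haveILetI false

namespace Groth.L23.Big

noncomputable section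

instance a_preservesFiniteLimits (S : Scheme.{u}) : PreservesFiniteLimits (EtFppf.a S) :=
  inferInstanceAs (PreservesFiniteLimits (Scheme.Etale.forget S))

instance a_flat (S : Scheme.{u}) : RepresentablyFlat (EtFppf.a S) := flat_of_preservesFiniteLimits _

/-- The inverse image to the big site is left exact. -/
theorem preservesFiniteLimits_piEtPull (K : Precoverage Scheme.{u}) (S : Scheme.{u}) [BigSite.AEtCont K S] :
    PreservesFiniteLimits (BigSite.piEtPull K S) := by
  haveI := Groth.L02.An.lan_preservesFiniteLimits.{u + 1} (EtFppf.a S)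
  exact Functor.sheafPullbackConstruction.preservesFiniteLimits (EtFppf.a S) AddCommGrpCat.{u + 1}
    S.smallEtaleTopology (QuotSh.J K S)

variable {X Y : Scheme.{u}} (f : X ⟶ Y) (K : Precoverage Scheme.{u})

/-- The extension by zero is left exact. -/
theorem preservesFiniteLimits_shriekAb : PreservesFiniteLimits (BigSite.shriekAb K f) := by
  have h : Groth.L28.MultiFlat.IsMultiFlat (Over.map f) :=
    Groth.L28.MultiFlat.isMultiFlat_comp_overMap (𝟭 (Over X)) f
  haveI := Groth.L28.MultiFlat.preservesFiniteLimits_lan (Over.map f) h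
  exact Functor.sheafPullbackConstruction.preservesFiniteLimits (Over.map f) AddCommGrpCat.{u + 1}
    (QuotSh.J K X) (QuotSh.J K Y)

/-- Restriction to a slice preserves injectives. -/
theorem injective_pullBig (I : BigSite.Ab K Y) [Injective I] :
    Injective ((BigSite.pullBig K f AddCommGrpCat.{u + 1}).obj I) := by
  haveI := preservesFiniteLimits_shriekAb f K
  exact Injective.injective_of_adjoint (BigSite.shriekAbAdj K f) I

section Et

variable (S : Scheme.{u})

local notation "Ke" => Scheme.etalePrecoverage

instance resEt_preservesFiniteColimits : PreservesFiniteColimits (BigSite.resEt Ke S) :=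
  haveI := (BigSite.iEtAdj Ke S).leftAdjoint_preservesColimits
  inferInstance

instance resEt_preservesFiniteLimits : PreservesFiniteLimits (BigSite.resEt Ke S) :=
  haveI := (BigSite.piEtAdj Ke S).rightAdjoint_preservesLimits
  inferInstance

instance piEtPull_preservesFiniteColimits : PreservesFiniteColimits (BigSite.piEtPull Ke S) :=
  haveI := (BigSite.piEtAdj Ke S).leftAdjoint_preservesColimits
  inferInstance

theorem isZero_RresEt (F : BigSite.Ab Ke S) (q : ℕ) (hq : 0 < q) :
    IsZero ((BigSite.RresEt Ke S q).obj F) := by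
  let R := BigSite.resEt Ke S
  let I := InjectiveResolution.of F
  refine IsZero.of_iso ?_ (I.isoRightDerivedObj R q)
  obtain ⟨q, rfl⟩ := Nat.exists_eq_succ_of_ne_zero hq.ne'
  rw [HomologicalComplex.homologyFunctor_obj, ← HomologicalComplex.exactAt_iff_isZero_homology]
  exact (I.cocomplex_exactAt_succ q).map R

theorem injective_resEt (I : BigSite.Ab Ke S) [Injective I] : Injective ((BigSite.resEt Ke S).obj I) := by
  haveI := preservesFiniteLimits_piEtPull Ke S
  exact Injective.injective_of_adjoint (BigSite.piEtAdj Ke S) I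

theorem isKInjective_resEt (I : CochainComplex (BigSite.Ab Ke S) ℤ) [I.IsKInjective] :
    CochainComplex.IsKInjective (((BigSite.resEt Ke S).mapHomologicalComplex (ComplexShape.up ℤ)).obj I) := by
  haveI := preservesFiniteLimits_piEtPull Ke S
  haveI : (BigSite.piEtPull Ke S).Additive := (BigSite.piEtAdj Ke S).left_adjoint_additive
  exact Groth.L10.KInjTransfer.isKInjective_map (BigSite.piEtAdj Ke S) I

theorem isKInjective_pullBig {T : Scheme.{u}} (g : T ⟶ S) (I : CochainComplex (BigSite.Ab Ke S) ℤ) [I.IsKInjective] :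
    CochainComplex.IsKInjective
      (((BigSite.pullBig Ke g AddCommGrpCat.{u + 1}).mapHomologicalComplex (ComplexShape.up ℤ)).obj I) := by
  haveI := preservesFiniteLimits_shriekAb g Ke
  haveI : PreservesFiniteColimits (BigSite.shriekAb Ke g) :=
    haveI := (BigSite.shriekAbAdj Ke g).leftAdjoint_preservesColimits
    inferInstance
  haveI : (BigSite.shriekAb Ke g).Additive := (BigSite.shriekAbAdj Ke g).left_adjoint_additive
  exact Groth.L10.KInjTransfer.isKInjective_map (BigSite.shriekAbAdj Ke g) I

theorem isKInjective_resEtAlong {T : Scheme.{u}} (g : T ⟶ S) (I : CochainComplex (BigSite.Ab Ke S) ℤ)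
    [I.IsKInjective] :
    CochainComplex.IsKInjective (((BigSite.resEtAlong Ke g).mapHomologicalComplex (ComplexShape.up ℤ)).obj I) := by
  haveI := isKInjective_pullBig S g I
  exact isKInjective_resEt T (((BigSite.pullBig Ke g AddCommGrpCat.{u + 1}).mapHomologicalComplex (ComplexShape.up ℤ)).obj I)

/-- The image of the top object is terminal. -/
def aTopTerminal : IsTerminal ((EtFppf.a S).obj (EtCoh.top S)) :=
  Over.mkIdTerminal

/-- The inverse image of a constant sheaf is constant. -/
def piEtPullConstIso :
    constantSheaf S.smallEtaleTopology AddCommGrpCat.{u + 1} ⋙ BigSite.piEtPull Ke S ≅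
      constantSheaf (QuotSh.J Ke S) AddCommGrpCat.{u + 1} :=
  Adjunction.leftAdjointUniq (((EtCore.constAdj S).comp (BigSite.piEtAdj Ke S)).ofNatIsoRight
    (NatIso.ofComponents (fun _ => Iso.refl _)))
    (constantSheafAdj (QuotSh.J Ke S) AddCommGrpCat.{u + 1} (aTopTerminal S))

theorem nonempty_H_resEt (F : BigSite.Ab Ke S) (p : ℕ) :
    Nonempty (EtCoh.H S ((BigSite.resEt Ke S).obj F) p ≃+ BigSite.H Ke S F p) := by
  haveI := preservesFiniteLimits_piEtPull Ke S
  let Z := AddCommGrpCat.of (ULift.{u + 1} ℤ)
  let c := (piEtPullConstIso S).app Z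
  let e := Groth.L15.ExtAdj.extEquiv.{u + 1, u + 1} (BigSite.piEtAdj Ke S)
    ((constantSheaf S.smallEtaleTopology AddCommGrpCat.{u + 1}).obj Z) F p
  refine ⟨e.symm.trans ?_⟩
  exact
    { toFun := fun x => (Abelian.Ext.mk₀ c.inv).comp x (zero_add p)
      invFun := fun x => (Abelian.Ext.mk₀ c.hom).comp x (zero_add p)
      left_inv := fun x => by
        show (Abelian.Ext.mk₀ c.hom).comp ((Abelian.Ext.mk₀ c.inv).comp x (zero_add p)) (zero_add p) = x
        simp only [Abelian.Ext.mk₀_comp_mk₀_assoc, Iso.hom_inv_id]
        exact Abelian.Ext.mk₀_id_comp x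
      right_inv := fun x => by
        show (Abelian.Ext.mk₀ c.inv).comp ((Abelian.Ext.mk₀ c.hom).comp x (zero_add p)) (zero_add p) = x
        simp only [Abelian.Ext.mk₀_comp_mk₀_assoc, Iso.inv_hom_id]
        exact Abelian.Ext.mk₀_id_comp x
      map_add' := fun x y => Abelian.Ext.comp_add _ _ _ _ }

end Et

section Localization

variable {T S T' S' : Scheme.{u}} (f₀ : T ⟶ S) (g : S' ⟶ S) (g' : T' ⟶ T) (f' : T' ⟶ S')

/-- An exact functor preserving injectives commutes with right derived functors. -/
theorem nonempty_rightDerived_comm {C C' D D' : Type*} [Category C] [Category C'] [Category D] [Category D']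
    [Abelian C] [Abelian C'] [Abelian D] [Abelian D'] [HasInjectiveResolutions C] [HasInjectiveResolutions C']
    (F : C ⥤ D) (F' : C' ⥤ D') (L : C ⥤ C') (M : D ⥤ D') [F.Additive] [F'.Additive] [L.Additive] [M.Additive]
    [L.PreservesHomology] [M.PreservesHomology] [L.PreservesInjectiveObjects] (e : F ⋙ M ≅ L ⋙ F') (X : C) (q : ℕ) :
    Nonempty (M.obj ((F.rightDerived q).obj X) ≅ (F'.rightDerived q).obj (L.obj X)) := by
  let I := injectiveResolution X
  let K := (L.mapHomologicalComplex (ComplexShape.up ℕ)).obj I.cocomplex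
  let ι : (CochainComplex.single₀ C').obj (L.obj X) ⟶ K :=
    ((HomologicalComplex.singleMapHomologicalComplex L (ComplexShape.up ℕ) 0).app X).inv ≫
      (L.mapHomologicalComplex (ComplexShape.up ℕ)).map I.ι
  haveI : QuasiIso ((L.mapHomologicalComplex (ComplexShape.up ℕ)).map I.ι) := by
    rw [quasiIso_iff]
    intro i
    exact inferInstance
  haveI : QuasiIso ι := inferInstanceAs (QuasiIso (_ ≫ _))
  let J : InjectiveResolution (L.obj X) :=
    { cocomplex := K
      injective := fun n => L.injective_obj (I.cocomplex.X n)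
      ι := ι }
  let e' : (M.mapHomologicalComplex (ComplexShape.up ℕ)).obj
      ((F.mapHomologicalComplex (ComplexShape.up ℕ)).obj I.cocomplex) ≅
      (F'.mapHomologicalComplex (ComplexShape.up ℕ)).obj K :=
    HomologicalComplex.Hom.isoOfComponents (fun n => e.app (I.cocomplex.X n))
      (fun n m _ => (e.hom.naturality (I.cocomplex.d n m)).symm)
  exact ⟨M.mapIso (I.isoRightDerivedObj F q) ≪≫
    ((((F.mapHomologicalComplex (ComplexShape.up ℕ)).obj I.cocomplex).sc q).mapHomologyIso M).symm ≪≫
    HomologicalComplex.homologyMapIso e' q ≪≫ (J.isoRightDerivedObj F' q).symm⟩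

local notation "Ke" => Scheme.etalePrecoverage

instance pullBig_preservesFiniteLimits : PreservesFiniteLimits (BigSite.pullBig K f AddCommGrpCat.{u + 1}) :=
  haveI := (BigSite.shriekAbAdj K f).rightAdjoint_preservesLimits
  inferInstance

instance pullBig_preservesFiniteColimits : PreservesFiniteColimits (BigSite.pullBig K f AddCommGrpCat.{u + 1}) :=
  haveI := (BigSite.bigAdj K f AddCommGrpCat.{u + 1}).leftAdjoint_preservesColimits
  inferInstance

instance pullBig_preservesInjectiveObjects :
    (BigSite.pullBig K f AddCommGrpCat.{u + 1}).PreservesInjectiveObjects where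
  injective_obj {I} _ := injective_pullBig f K I

instance resEtAlong_preservesInjectiveObjects : (BigSite.resEtAlong Ke g).PreservesInjectiveObjects where
  injective_obj {I} hI := by
    haveI := injective_pullBig g Ke I
    exact injective_resEt S' ((BigSite.pullBig Ke g AddCommGrpCat.{u + 1}).obj I)

variable (hsq : IsPullback g' f' f₀ g)

include hsq in
theorem nonempty_pullBig_Rpush (F : BigSite.Ab Ke T) (q : ℕ) :
    Nonempty ((BigSite.pullBig Ke g AddCommGrpCat.{u + 1}).obj ((BigSite.RpushBig Ke f₀ q).obj F) ≅
      (BigSite.RpushBig Ke f' q).obj ((BigSite.pullBig Ke g' AddCommGrpCat.{u + 1}).obj F)) :=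
  nonempty_rightDerived_comm _ _ _ _ (nonempty_pull_push f₀ g g' f' hsq Ke AddCommGrpCat.{u + 1}).some F q

include hsq in
theorem nonempty_resEtAlong_Rpush [EtCoh.BCCont f'] (F : BigSite.Ab Ke T) (q : ℕ) :
    Nonempty ((BigSite.resEtAlong Ke g).obj ((BigSite.RpushBig Ke f₀ q).obj F) ≅
      (EtCoh.Rpush f' q).obj ((BigSite.resEtAlong Ke g').obj F)) :=
  nonempty_rightDerived_comm _ _ _ _ (nonempty_resEtAlong_push f₀ g g' f' hsq).some F q

end Localization

end

end Groth.L23.Big
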