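import Groth.Prelude.Def_BigSite
import Groth.Prelude.Def_EtBase

/-!
# Base change of big sites
-/

universe v' u' u

open CategoryTheory Limits AlgebraicGeometry Opposite

set_option backward.isDefEq.respectTransparency.types false
set_option linter.style.haveILetI false

namespace Groth.L23.Big

noncomputable section

section Mono

variable {X Y : Scheme.{u}} (f : X ⟶ Y) [Mono f]

theorem isIso_unit_mapPullback (V : Over X) : IsIso ((Over.mapPullbackAdj f).unit.app V) := by
  haveI : (Over.map f).Faithful := ⟨fun {A B} a b h => Over.OverMorphism.ext (congrArg (fun k => k.left) h)⟩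
  haveI : (Over.map f).Full := ⟨fun {A B} a => ⟨Over.homMk a.left ((cancel_mono f).1
    ((Category.assoc _ _ _).trans (Over.w a))), Over.OverMorphism.ext rfl⟩⟩
  infer_instance

variable (K : Precoverage Scheme.{u}) (A : Type u') [Category.{v'} A]

theorem isIso_counit_bigAdj (F : Sheaf (QuotSh.J K X) A) : IsIso ((BigSite.bigAdj K f A).counit.app F) := by
  haveI : IsIso ((Over.mapPullbackAdj f).unit) := by
    haveI := isIso_unit_mapPullback f
    exact NatIso.isIso_of_isIso_app _
  haveI : IsIso ((sheafToPresheaf (QuotSh.J K X) A).map ((BigSite.bigAdj K f A).counit.app F)) :=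
    @NatIso.isIso_of_isIso_app _ _ _ _ _ _ _ fun V => by
      simp [Adjunction.sheafPushforwardContinuous, Adjunction.whiskerLeft]
      exact inferInstanceAs (IsIso (F.obj.map ((Over.mapPullbackAdj f).unit.app V.unop).op))
  exact isIso_of_fully_faithful (sheafToPresheaf _ A) _

end Mono

section Square

variable {S T S' T' : Scheme.{u}} (f : T ⟶ S) (g : S' ⟶ S) (g' : T' ⟶ T) (f' : T' ⟶ S')
  (hsq : IsPullback g' f' f g)

include hsq in
theorem isPullback_paste (U : Over S') :
    IsPullback (pullback.fst U.hom f') (pullback.snd U.hom f' ≫ g') (U.hom ≫ g) f :=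
  ((IsPullback.of_hasPullback U.hom f').flip.paste_horiz hsq.flip.flip |> fun h => h.flip)

/-- Base change commutes with composition along a cartesian square. -/
def bcIso : Over.pullback f' ⋙ Over.map g' ≅ Over.map g ⋙ Over.pullback f :=
  NatIso.ofComponents
    (fun U => Over.isoMk (isPullback_paste f g g' f' hsq U).isoPullback
      ((isPullback_paste f g g' f' hsq U).isoPullback_hom_snd))
    fun {U V} m => by
      refine Over.OverMorphism.ext ?_
      show pullback.lift (pullback.fst U.hom f' ≫ m.left) (pullback.snd U.hom f') _ ≫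
          (isPullback_paste f g g' f' hsq V).isoPullback.hom =
        (isPullback_paste f g g' f' hsq U).isoPullback.hom ≫
          pullback.lift (pullback.fst (U.hom ≫ g) f ≫ m.left) (pullback.snd (U.hom ≫ g) f) _
      refine pullback.hom_ext ?_ ?_
      · simp only [Category.assoc, IsPullback.isoPullback_hom_fst, pullback.lift_fst,
          IsPullback.isoPullback_hom_fst_assoc]
      · simp only [Category.assoc, IsPullback.isoPullback_hom_snd, pullback.lift_snd,
          IsPullback.isoPullback_hom_snd, pullback.lift_snd_assoc]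

include hsq in
theorem nonempty_pull_push (K : Precoverage Scheme.{u}) (A : Type u') [Category.{v'} A]
    [(Over.pullback f).IsContinuous (QuotSh.J K S) (QuotSh.J K T)]
    [(Over.pullback f').IsContinuous (QuotSh.J K S') (QuotSh.J K T')] :
    Nonempty (BigSite.pushBig K f A ⋙ BigSite.pullBig K g A ≅ BigSite.pullBig K g' A ⋙ BigSite.pushBig K f' A) := by
  refine ⟨NatIso.ofComponents (fun F => (fullyFaithfulSheafToPresheaf _ _).preimageIso
    (Functor.isoWhiskerRight (NatIso.op (bcIso f g g' f' hsq)) F.obj)) fun {F G} φ => ?_⟩
  refine (sheafToPresheaf _ _).map_injective ?_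
  rw [Functor.map_comp, Functor.map_comp, Functor.FullyFaithful.preimageIso_hom,
    Functor.FullyFaithful.preimageIso_hom, Functor.FullyFaithful.map_preimage, Functor.FullyFaithful.map_preimage]
  ext V
  exact (φ.hom.naturality _).symm

/-- Base change on small and big étale sites. -/
def bcEtIso : EtCoh.bc f' ⋙ EtFppf.a T' ⋙ Over.map g' ≅ EtFppf.a S' ⋙ Over.map g ⋙ Over.pullback f :=
  NatIso.ofComponents
    (fun U => (bcIso f g g' f' hsq).app ((EtFppf.a S').obj U))
    fun {U V} m => (bcIso f g g' f' hsq).hom.naturality ((EtFppf.a S').map m)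

include hsq in
theorem nonempty_resEtAlong_push [EtCoh.BCCont f'] :
    Nonempty (BigSite.pushBig Scheme.etalePrecoverage f AddCommGrpCat.{u + 1} ⋙
        BigSite.resEtAlong Scheme.etalePrecoverage g ≅
      BigSite.resEtAlong Scheme.etalePrecoverage g' ⋙ EtCoh.push f') := by
  refine ⟨NatIso.ofComponents (fun F => (fullyFaithfulSheafToPresheaf _ _).preimageIso
    (Functor.isoWhiskerRight (NatIso.op (bcEtIso f g g' f' hsq)) F.obj)) fun {F G} φ => ?_⟩
  refine (sheafToPresheaf _ _).map_injective ?_
  rw [Functor.map_comp, Functor.map_comp, Functor.FullyFaithful.preimageIso_hom,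
    Functor.FullyFaithful.preimageIso_hom, Functor.FullyFaithful.map_preimage, Functor.FullyFaithful.map_preimage]
  ext V x
  exact ConcreteCategory.congr_hom (φ.hom.naturality _).symm x

end Square

end

end Groth.L23.Big
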