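import Groth.Prelude.Def_BigSite
import Mathlib.CategoryTheory.Adjunction.Triple

/-!
# The small étale site inside the big étale site
-/

universe v' u' u

open CategoryTheory Limits AlgebraicGeometry Opposite

set_option backward.isDefEq.respectTransparency.types false
set_option linter.style.haveILetI false

namespace Groth.L23.Big

noncomputable section

variable (X : Scheme.{u})

instance a_full : (EtFppf.a X).Full := inferInstanceAs (Scheme.Etale.forget X).Full
instance a_faithful : (EtFppf.a X).Faithful := inferInstanceAs (Scheme.Etale.forget X).Faithful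

variable (A : Type u') [Category.{v'} A] [∀ (F : (X.Etale)ᵒᵖ ⥤ A), (EtFppf.a X).op.HasPointwiseRightKanExtension F]
  [((EtFppf.a X).sheafPushforwardContinuous A X.smallEtaleTopology
    (QuotSh.J Scheme.etalePrecoverage X)).IsRightAdjoint]

/-- The unit of the inverse image to the big étale site is an isomorphism. -/
theorem isIso_unit_small : IsIso (((EtFppf.a X).sheafAdjunctionContinuous A X.smallEtaleTopology
    (QuotSh.J Scheme.etalePrecoverage X)).unit) := by
  let adj₂ := (EtFppf.a X).sheafAdjunctionCocontinuous A X.smallEtaleTopology (QuotSh.J Scheme.etalePrecoverage X)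
  let t : Adjunction.Triple _ _ _ :=
    ⟨(EtFppf.a X).sheafAdjunctionContinuous A X.smallEtaleTopology (QuotSh.J Scheme.etalePrecoverage X), adj₂⟩
  refine t.isIso_unit_iff_isIso_counit.2 ?_
  haveI : ∀ F, IsIso (adj₂.counit.app F) := fun F => by
    haveI : IsIso ((sheafToPresheaf X.smallEtaleTopology A).map (adj₂.counit.app F)) := by
      show IsIso ((adj₂.counit.app F).hom)
      rw [Functor.sheafAdjunctionCocontinuous_counit_app_hom, Functor.ranAdjunction_counit]
      haveI : (EtFppf.a X).op.Full := inferInstance
      haveI : (EtFppf.a X).op.Faithful := inferInstance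
      exact @NatIso.isIso_of_isIso_app _ _ _ _ _ _ _ fun V =>
        ((EtFppf.a X).op.isPointwiseRightKanExtensionRanCounit F.obj ((EtFppf.a X).op.obj V)).isIso_hom_app
    exact isIso_of_fully_faithful (sheafToPresheaf _ A) _
  exact NatIso.isIso_of_isIso_app _

end

end Groth.L23.Big
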