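import Groth.Prelude.Def_BigSite
import Mathlib.CategoryTheory.Sites.LocallyBijective
import Mathlib.CategoryTheory.Sites.Limits
import Mathlib.CategoryTheory.Limits.Types.Colimits
import Mathlib.CategoryTheory.IsConnected
import Mathlib.CategoryTheory.Sites.Abelian
import Mathlib.CategoryTheory.Sites.LeftExact
import Mathlib.Algebra.Category.Grp.Abelian
import Mathlib.Algebra.Homology.ShortComplex.ExactFunctor
import Mathlib.CategoryTheory.Sites.EpiMono

/-!
Almost cocontinuous functors between large sites: `u^p` commutes with sheafification on presheaves with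
singleton values on sheaf theoretically empty objects; `u^s` preserves connected colimits of sheaves of
sets and is exact on abelian sheaves.  (The small-site version is `Groth.Agent.L09.AlmostCocont`.)
-/

set_option autoImplicit false
open CategoryTheory CategoryTheory.Limits Opposite
universe w t v₁ v₂ u₁ u₂

namespace Groth.L23.AlmostPush

variable {C : Type u₁} [Category.{v₁} C] {D : Type u₂} [Category.{v₂} D]
  (J : GrothendieckTopology C) (K : GrothendieckTopology D) (u : C ⥤ D) [u.IsContinuous J K]

section Sets

lemma subsingleton_of_empty (F : Sheaf K (Type t)) {V : D} (hV : (⊥ : Sieve V) ∈ K V) :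
    Subsingleton (F.obj.obj (op V)) := by
  have h := ((isSheaf_iff_isSheaf_of_type K F.obj).1 F.property) ⊥ hV
  exact ⟨fun a b => h.isSeparatedFor.ext fun _ _ hf => hf.elim⟩

lemma nonempty_of_empty (F : Sheaf K (Type t)) {V : D} (hV : (⊥ : Sieve V) ∈ K V) :
    Nonempty (F.obj.obj (op V)) := by
  have h := ((isSheaf_iff_isSheaf_of_type K F.obj).1 F.property) ⊥ hV
  obtain ⟨t, -, -⟩ := h (fun _ _ hf => hf.elim) (fun _ _ _ _ _ _ _ h₁ => h₁.elim)
  exact ⟨t⟩

variable [HasSheafify J (Type t)] [HasSheafify K (Type t)] [J.WEqualsLocallyBijective (Type t)]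
  [K.WEqualsLocallyBijective (Type t)]

variable (hu : BigSite.IsAlmostCocontinuous u J K) (G : Dᵒᵖ ⥤ Type t)
  (hG : ∀ V : D, (⊥ : Sieve V) ∈ K V → Nonempty (Unique (G.obj (op V))))

include hu hG in
lemma W_whisker : J.W (Functor.whiskerLeft u.op (toSheafify K G)) := by
  rw [J.W_iff_isLocallyBijective]
  refine ⟨⟨fun {X} x y h => ?_⟩, ⟨fun {U} s => ?_⟩⟩
  · obtain ⟨R', hR', hR⟩ := hu X.unop _ (Presheaf.equalizerSieve_mem K (toSheafify K G) x y h)
    refine J.superset_covering (fun V g hg => ?_) hR'
    rcases hR g hg with he | hr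
    · haveI := (hG _ he).some
      exact @Subsingleton.elim (G.obj (op (u.obj V))) inferInstance _ _
    · exact hr
  · obtain ⟨R', hR', hR⟩ := hu U _ (Presheaf.imageSieve_mem K (toSheafify K G) (U := op (u.obj U)) s)
    refine J.superset_covering (fun V g hg => ?_) hR'
    rcases hR g hg with he | ⟨t, ht⟩
    · obtain ⟨hq⟩ := hG _ he
      haveI := subsingleton_of_empty K ((presheafToSheaf K (Type t)).obj G) he
      exact ⟨hq.default, @Subsingleton.elim
        (((presheafToSheaf K (Type t)).obj G).obj.obj (op (u.obj V))) inferInstance _ _⟩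
    · exact ⟨t, ht⟩

/-- the comparison map. -/
noncomputable abbrev comparison :=
  ((sheafificationAdjunction J (Type t)).homEquiv (u.op ⋙ G)
      ((u.sheafPushforwardContinuous (Type t) J K).obj ((presheafToSheaf K (Type t)).obj G))).symm
        (Functor.whiskerLeft u.op (toSheafify K G))

include hu hG in
theorem isIso_comparison : IsIso (comparison J K u G) := by
  have hfac : toSheafify J (u.op ⋙ G) ≫ (sheafToPresheaf J (Type t)).map (comparison J K u G) =
      Functor.whiskerLeft u.op (toSheafify K G) :=
    (((sheafificationAdjunction J (Type t)).homEquiv_unit _ _ _).symm.trans (Equiv.apply_symm_apply _ _) : _)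
  rw [← J.W_sheafToPresheaf_map_iff_isIso]
  refine MorphismProperty.of_precomp _ _ _ (J.W_toSheafify (u.op ⋙ G)) ?_
  rw [hfac]
  exact W_whisker J K u hu G hG

/-- whiskering then sheafifying. -/
noncomputable abbrev A : (Dᵒᵖ ⥤ Type t) ⥤ Sheaf J (Type t) :=
  (Functor.whiskeringLeft _ _ (Type t)).obj u.op ⋙ presheafToSheaf J (Type t)

/-- the comparison as a natural transformation. -/
noncomputable def comparisonNat :
    A J u ⟶ presheafToSheaf K (Type t) ⋙ u.sheafPushforwardContinuous (Type t) J K where
  app P := comparison J K u P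
  naturality {P Q} φ := by
    apply ((sheafificationAdjunction J (Type t)).homEquiv _ _).injective
    refine ((sheafificationAdjunction J (Type t)).homEquiv_naturality_left _ _).trans ?_
    refine Eq.trans ?_ ((sheafificationAdjunction J (Type t)).homEquiv_naturality_right _ _).symm
    refine (congrArg (_ ≫ ·) (((sheafificationAdjunction J (Type t)).homEquiv (u.op ⋙ Q) _).apply_symm_apply _)).trans
      (Eq.trans ?_ (congrArg (· ≫ _) (((sheafificationAdjunction J (Type t)).homEquiv (u.op ⋙ P) _).apply_symm_apply _)).symm)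
    change Functor.whiskerLeft u.op φ ≫ Functor.whiskerLeft u.op (toSheafify K Q) =
      Functor.whiskerLeft u.op (toSheafify K P) ≫ Functor.whiskerLeft u.op (sheafifyMap K φ)
    rw [← Functor.whiskerLeft_comp, ← Functor.whiskerLeft_comp, toSheafify_naturality]

include hu in
theorem preservesConnectedColimits (I : Type w) [Category.{w} I] [IsConnected I]
    [HasColimitsOfShape I (Type t)] :
    PreservesColimitsOfShape I (u.sheafPushforwardContinuous (Type t) J K) := by
  constructor
  intro F
  let P := F ⋙ sheafToPresheaf K (Type t)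
  let c := colimit.cocone P
  let us := u.sheafPushforwardContinuous (Type t) J K
  let B := presheafToSheaf K (Type t)
  have hcG : ∀ V : D, (⊥ : Sieve V) ∈ K V → Nonempty (Unique (c.pt.obj (op V))) := by
    intro V hV
    let hc := isColimitOfPreserves ((evaluation _ _).obj (op V)) (colimit.isColimit P)
    obtain ⟨i₀⟩ := (IsConnected.is_nonempty : Nonempty I)
    obtain ⟨a₀⟩ := nonempty_of_empty K (F.obj i₀) hV
    let pt₀ : c.pt.obj (op V) := (c.ι.app i₀).app (op V) a₀
    refine ⟨{ default := pt₀, uniq := fun x => ?_ }⟩
    obtain ⟨i, a, rfl⟩ := Types.jointly_surjective_of_isColimit hc x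
    show (c.ι.app i).app (op V) a = pt₀
    have hall : ∀ j, ∀ b : (F.obj j).obj.obj (op V), (c.ι.app j).app (op V) b = pt₀ := by
      intro j
      refine induct_on_objects {j | ∀ b : (F.obj j).obj.obj (op V), (c.ι.app j).app (op V) b = pt₀}
        (j₀ := i₀) (fun b => ?_) (fun {j₁ j₂} f => ?_) j
      · haveI := subsingleton_of_empty K (F.obj i₀) hV
        rw [Subsingleton.elim b a₀]
      · have hw : ∀ b : (F.obj j₁).obj.obj (op V), (c.ι.app j₁).app (op V) b =
            (c.ι.app j₂).app (op V) (((P.map f).app (op V)) b) := fun b =>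
          (ConcreteCategory.congr_hom (NatTrans.congr_app (c.w f) (op V)) b).symm
        constructor
        · intro h b
          haveI := subsingleton_of_empty K (F.obj j₂) hV
          obtain ⟨a₁⟩ := nonempty_of_empty K (F.obj j₁) hV
          rw [Subsingleton.elim b ((P.map f).app (op V) a₁)]
          exact (hw a₁).symm.trans (h a₁)
        · intro h b
          exact (hw b).trans (h _)
    exact hall i a
  have hiso : IsIso ((comparisonNat J K u).app c.pt) := isIso_comparison J K u hu c.pt hcG
  have hisoF : ∀ i, IsIso ((comparisonNat J K u).app (P.obj i)) := fun i =>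
    isIso_comparison J K u hu _ fun V hV => by
      haveI := subsingleton_of_empty K (F.obj i) hV
      obtain ⟨a⟩ := nonempty_of_empty K (F.obj i) hV
      exact ⟨{ default := a, uniq := fun x => @Subsingleton.elim ((F.obj i).obj.obj (op V)) inferInstance x a }⟩
  have hA : IsColimit ((A J u).mapCocone c) :=
    isColimitOfPreserves (presheafToSheaf J (Type t))
      (isColimitOfPreserves ((Functor.whiskeringLeft Cᵒᵖ Dᵒᵖ (Type t)).obj u.op) (colimit.isColimit P))
  haveI : ∀ i, IsIso ((Functor.whiskerLeft P (comparisonNat J K u)).app i) := hisoF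
  haveI : IsIso (Functor.whiskerLeft P (comparisonNat J K u)) := NatIso.isIso_of_isIso_app _
  have hB : IsColimit ((B ⋙ us).mapCocone c) := by
    refine IsColimit.ofIsoColimit ((IsColimit.precomposeHomEquiv
      (asIso (Functor.whiskerLeft P (comparisonNat J K u))).symm _).symm hA)
      (Cocone.ext (asIso ((comparisonNat J K u).app c.pt)) fun i => ?_)
    show (inv (Functor.whiskerLeft P (comparisonNat J K u))).app i ≫ (A J u).map (c.ι.app i) ≫
      (comparisonNat J K u).app c.pt = _
    refine (congrArg (_ ≫ ·) ((comparisonNat J K u).naturality (c.ι.app i))).trans ?_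
    rw [NatIso.isIso_inv_app]
    haveI := hisoF i
    refine (IsIso.inv_hom_id_assoc ((comparisonNat J K u).app (P.obj i)) _).trans ?_
    rfl
  haveI : PreservesColimit (P ⋙ B) us :=
    preservesColimit_of_preserves_colimit_cocone (isColimitOfPreserves B (colimit.isColimit P))
      (IsColimit.ofIsoColimit hB (Cocone.ext (Iso.refl _) (fun i => Category.comp_id _)))
  exact preservesColimit_of_iso_diagram us
    (K₁ := P ⋙ B) (Functor.associator _ _ _ ≪≫
      Functor.isoWhiskerLeft F (asIso (sheafificationAdjunction K (Type t)).counit) ≪≫ F.rightUnitor)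

end Sets

section Ab

variable [HasSheafify J AddCommGrpCat.{t}] [HasSheafify K AddCommGrpCat.{t}]
  [J.WEqualsLocallyBijective AddCommGrpCat.{t}] [K.WEqualsLocallyBijective AddCommGrpCat.{t}]
  [J.HasSheafCompose (forget AddCommGrpCat.{t})] [K.HasSheafCompose (forget AddCommGrpCat.{t})]

theorem preservesEpimorphisms (hu : BigSite.IsAlmostCocontinuous u J K) :
    (u.sheafPushforwardContinuous AddCommGrpCat.{t} J K).PreservesEpimorphisms := by
  refine ⟨fun {F G} φ _ => ?_⟩
  haveI : Sheaf.IsLocallySurjective φ := (Sheaf.isLocallySurjective_iff_epi' (φ := φ)).2 inferInstance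
  refine (Sheaf.isLocallySurjective_iff_epi' (φ := _)).1 ⟨fun {U} s => ?_⟩
  obtain ⟨R', hR', hR⟩ := hu U _ (Presheaf.imageSieve_mem K φ.hom (U := op (u.obj U)) s)
  refine J.superset_covering (fun V g hg => ?_) hR'
  rcases hR g hg with he | ⟨x, hx⟩
  · haveI := subsingleton_of_empty K ((sheafCompose K (forget AddCommGrpCat.{t})).obj G) he
    exact ⟨(0 : F.obj.obj (op (u.obj V))), @Subsingleton.elim (G.obj.obj (op (u.obj V))) this _ _⟩
  · exact ⟨x, hx⟩

theorem preservesFiniteColimits_ab (hu : BigSite.IsAlmostCocontinuous u J K)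
    [PreservesFiniteLimits (u.sheafPushforwardContinuous AddCommGrpCat.{t} J K)] :
    PreservesFiniteColimits (u.sheafPushforwardContinuous AddCommGrpCat.{t} J K) := by
  haveI := preservesEpimorphisms J K u hu
  haveI : (u.sheafPushforwardContinuous AddCommGrpCat.{t} J K).Additive := { }
  haveI : (u.sheafPushforwardContinuous AddCommGrpCat.{t} J K).PreservesHomology :=
    Functor.preservesHomology_of_preservesEpis_and_kernels _
  exact Functor.preservesFiniteColimits_of_preservesHomology _

end Ab

end Groth.L23.AlmostPush
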