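import Groth.Prelude.Def_BigSite
import Groth.Agent.L27.Fppf.Elem
import Mathlib.AlgebraicGeometry.Limits
import Mathlib.CategoryTheory.Sites.Canonical
import Mathlib.AlgebraicGeometry.Sites.BigZariski
import Mathlib.AlgebraicGeometry.Morphisms.QuasiCompact

/-!
# The topology generated by a class of quasi-compact morphisms
-/

universe u v

open CategoryTheory CategoryTheory.Limits AlgebraicGeometry Opposite

set_option autoImplicit false
set_option backward.isDefEq.respectTransparency.types false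

namespace Groth.L23.ClassTop

variable {C : MorphismProperty Scheme.{u}} [C.IsStableUnderComposition] [C.IsStableUnderBaseChange]

/-- The covering condition generated by the class `C`. -/
def IsCover (C : MorphismProperty Scheme.{u}) {S : Scheme.{u}} (X : Over S) (R : Sieve X) : Prop :=
  ∃ (ι : Type u) (U : ι → X.left.Opens), (∀ i, IsAffineOpen (U i)) ∧ ⨆ i, U i = ⊤ ∧
    ∀ i, ∃ (κ : Type u) (_ : Finite κ) (V : κ → Over S) (φ : ∀ j, V j ⟶ X)
      (ψ : ∀ j, (V j).left ⟶ (U i : Scheme.{u})),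
      (∀ j, IsAffine (V j).left) ∧ (∀ j, R.arrows (φ j)) ∧ (∀ j, ψ j ≫ (U i).ι = (φ j).left) ∧
        C (Limits.Sigma.desc ψ)

theorem sigmaDesc_comp
    (hcoprod : ∀ (κ : Type u) [Finite κ] (A B : κ → Scheme.{u}) (f : ∀ j, A j ⟶ B j),
      (∀ j, C (f j)) → C (Limits.Sigma.map f))
    {κ : Type u} [Finite κ] {K : κ → Type u} [∀ j, Finite (K j)] {A : κ → Scheme.{u}}
    {W : ∀ j, K j → Scheme.{u}} {U : Scheme.{u}} (a : ∀ j k, W j k ⟶ A j) (ψ : ∀ j, A j ⟶ U)
    (ha : ∀ j, C (Sigma.desc (a j))) (hψ : C (Sigma.desc ψ)) :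
    C (Sigma.desc fun r : Σ j, K j => a r.1 r.2 ≫ ψ r.1) := by
  have h : (Sigma.desc fun r : Σ j, K j => a r.1 r.2 ≫ ψ r.1) =
      (sigmaSigmaIso K W).inv ≫ Limits.Sigma.map (fun j => Sigma.desc (a j)) ≫ Sigma.desc ψ := by
    ext r
    simp [sigmaSigmaIso]
  rw [h, C.cancel_left_of_respectsIso]
  exact C.comp_mem _ _ (hcoprod κ _ _ _ ha) hψ

theorem sigmaDesc_baseChange {κ : Type u} [Finite κ] {A : κ → Scheme.{u}} {U W : Scheme.{u}}
    (ψ : ∀ j, A j ⟶ U) (h : W ⟶ U) (hψ : C (Sigma.desc ψ)) :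
    C (Sigma.desc fun j => pullback.fst h (ψ j)) := by
  have hau : IsUniversalColimit (Cofan.mk (∐ A) (Sigma.ι A)) :=
    FinitaryPreExtensive.isUniversal_finiteCoproducts (coproductIsCoproduct A)
  have hp := hau.isPullback_of_isColimit_left ψ (Sigma.desc ψ) h (fun j => pullback.fst h (ψ j))
    (fun j => pullback.snd h (ψ j)) (fun j => IsPullback.of_hasPullback h (ψ j))
    (d := Cofan.mk (∐ fun j => pullback h (ψ j)) (Sigma.ι _)) (coproductIsCoproduct _)
    (fun j => Sigma.ι_desc _ _)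
  have h1 : Cofan.IsColimit.desc (coproductIsCoproduct fun j => pullback h (ψ j))
      (fun j => pullback.fst h (ψ j)) = Sigma.desc fun j => pullback.fst h (ψ j) := by
    refine Sigma.hom_ext _ _ fun j => ?_
    simp [Cofan.IsColimit.desc, Sigma.ι, coproductIsCoproduct]
  exact h1 ▸ C.of_isPullback hp.flip hψ

theorem sigmaDesc_id
    (haff : ∀ (U : Scheme.{u}) [IsAffine U] (κ : Type u) [Finite κ] (V : κ → U.Opens),
      (∀ j, IsAffineOpen (V j)) → ⨆ j, V j = ⊤ → C (Limits.Sigma.desc fun j => (V j).ι))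
    (U : Scheme.{u}) [IsAffine U] : C (Sigma.desc fun _ : PUnit.{u + 1} => 𝟙 U) := by
  have h := haff U PUnit.{u + 1} (fun _ => ⊤) (fun _ => isAffineOpen_top U) iSup_const
  have e : (Sigma.desc fun _ : PUnit.{u + 1} => (⊤ : U.Opens).ι) =
      Limits.Sigma.map (fun _ => (⊤ : U.Opens).ι) ≫ Sigma.desc fun _ : PUnit.{u + 1} => 𝟙 U := by
    ext j
    simp
  rw [e] at h
  haveI : ∀ _ : PUnit.{u + 1}, IsIso ((⊤ : U.Opens).ι) := fun _ => inferInstanceAs (IsIso U.topIso.hom)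
  exact (C.cancel_left_of_respectsIso _ _).1 h

variable (S : Scheme.{u})

/-- The topology generated by `C`. -/
noncomputable def topology (hqc : ∀ {A B : Scheme.{u}} (f : A ⟶ B), C f → QuasiCompact f)
    (hcoprod : ∀ (κ : Type u) [Finite κ] (A B : κ → Scheme.{u}) (f : ∀ j, A j ⟶ B j),
      (∀ j, C (f j)) → C (Limits.Sigma.map f))
    (haff : ∀ (U : Scheme.{u}) [IsAffine U] (κ : Type u) [Finite κ] (V : κ → U.Opens),
      (∀ j, IsAffineOpen (V j)) → ⨆ j, V j = ⊤ → C (Limits.Sigma.desc fun j => (V j).ι)) :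
    GrothendieckTopology (Over S) where
  sieves X := {R | IsCover C X R}
  top_mem' X := by
    refine ⟨{U : X.left.Opens // IsAffineOpen U}, fun U => U.1, fun U => U.2,
      iSup_affineOpens_eq_top X.left, fun U => ?_⟩
    haveI : IsAffine (U.1 : Scheme.{u}) := U.2
    exact ⟨PUnit.{u + 1}, inferInstance, fun _ => Over.mk (U.1.ι ≫ X.hom), fun _ => Over.homMk U.1.ι rfl,
      fun _ => 𝟙 _, fun _ => U.2, fun _ => trivial, fun _ => Category.id_comp _, sigmaDesc_id haff _⟩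
  pullback_stable' X Y R f hR := by
    obtain ⟨ι, U, hU, hcov, hdata⟩ := hR
    refine ⟨{p : ι × Y.left.Opens // IsAffineOpen p.2 ∧ p.2 ≤ f.left ⁻¹ᵁ U p.1}, fun p => p.1.2,
      fun p => p.2.1, ?_, fun p => ?_⟩
    · refine eq_top_iff.2 fun y _ => ?_
      obtain ⟨i, hi⟩ := TopologicalSpace.Opens.mem_iSup.1 (hcov.ge (Set.mem_univ (f.left y)) :)
      obtain ⟨W, hW, hyW, hWle⟩ := exists_isAffineOpen_mem_and_subset (show y ∈ f.left ⁻¹ᵁ U i from hi)
      exact TopologicalSpace.Opens.mem_iSup.2 ⟨⟨(i, W), hW, hWle⟩, hyW⟩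
    obtain ⟨⟨i, W⟩, hW, hle⟩ := p
    obtain ⟨κ, _, V, φ, ψ, haV, hR, hψ, hC⟩ := hdata i
    haveI : IsAffine (W : Scheme.{u}) := hW
    haveI : IsAffine (U i : Scheme.{u}) := hU i
    let h : (W : Scheme.{u}) ⟶ U i := f.left.resLE (U i) W hle
    let V' : κ → Over S := fun j => Over.mk ((pullback.fst h (ψ j) ≫ W.ι) ≫ Y.hom)
    let φ' : ∀ j, V' j ⟶ Y := fun j => Over.homMk (pullback.fst h (ψ j) ≫ W.ι) rfl
    have key : ∀ j, (φ' j).left ≫ f.left = pullback.snd h (ψ j) ≫ (φ j).left := fun j => by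
      rw [← hψ j, ← Category.assoc, ← pullback.condition]
      simp [φ', h]
    refine ⟨κ, inferInstance, V', φ', fun j => pullback.fst h (ψ j),
      fun j => by haveI := haV j; exact inferInstanceAs (IsAffine (pullback h (ψ j))), fun j => ?_,
      fun j => rfl, sigmaDesc_baseChange ψ h hC⟩
    let L : V' j ⟶ V j := Over.homMk (pullback.snd h (ψ j)) (by
      show _ = (φ' j).left ≫ Y.hom
      rw [← Over.w (φ j), ← Over.w f, ← Category.assoc, ← key j, Category.assoc])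
    have e : L ≫ φ j = φ' j ≫ f := Over.OverMorphism.ext (key j).symm
    exact (e ▸ R.downward_closed (hR j) L : R.arrows (φ' j ≫ f))
  transitive' X R hR R' hR' := by
    obtain ⟨ι, U, hU, hcov, hdata⟩ := hR
    refine ⟨ι, U, hU, hcov, fun i => ?_⟩
    obtain ⟨κ, _, V, φ, ψ, haV, hRφ, hψ, hC⟩ := hdata i
    choose ι' U' hU' hcov' hdata' using fun j => hR' (hRφ j)
    have hfin : ∀ j, ∃ t : Finset (ι' j), ∀ x, ∃ k ∈ t, x ∈ U' j k := fun j => by
      haveI := haV j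
      obtain ⟨t, ht⟩ := isCompact_univ.elim_finite_subcover (fun k => (U' j k : Set (V j).left))
        (fun k => (U' j k).isOpen) (fun x _ => Set.mem_iUnion.2 <|
          TopologicalSpace.Opens.mem_iSup.1 ((hcov' j).ge (Set.mem_univ x) :))
      exact ⟨t, fun x => by simpa using ht (Set.mem_univ x)⟩
    choose t ht using hfin
    choose κ' hκ' V' φ' ψ' haV' hRφ' hψ' hC' using fun j (k : {k // k ∈ t j}) => hdata' j k.1
    have hW : ∀ j, C (Sigma.desc fun k : {k // k ∈ t j} => (U' j k.1).ι) := fun j => by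
      haveI := haV j
      refine haff _ {k // k ∈ t j} _ (fun k => hU' j k.1) (eq_top_iff.2 fun x _ => ?_)
      obtain ⟨k, hk, hx⟩ := ht j x
      exact TopologicalSpace.Opens.mem_iSup.2 ⟨⟨k, hk⟩, hx⟩
    haveI : ∀ j k, Finite (κ' j k) := hκ'
    refine ⟨Σ j, Σ k : {k // k ∈ t j}, κ' j k, inferInstance, fun r => V' r.1 r.2.1 r.2.2,
      fun r => φ' r.1 r.2.1 r.2.2 ≫ φ r.1, fun r => (ψ' r.1 r.2.1 r.2.2 ≫ (U' r.1 r.2.1.1).ι) ≫ ψ r.1,
      fun r => haV' _ _ _, fun r => hRφ' _ _ _, fun r => ?_, ?_⟩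
    · exact (Category.assoc _ _ _).trans ((congrArg (_ ≫ ·) (hψ r.1)).trans
        (congrArg (· ≫ (φ r.1).left) (hψ' r.1 r.2.1 r.2.2)))
    · exact sigmaDesc_comp hcoprod (K := fun j => Σ k : {k // k ∈ t j}, κ' j k) (A := fun j => (V j).left)
        (W := fun j r => (V' j r.1 r.2).left) (fun j r => ψ' j r.1 r.2 ≫ (U' j r.1.1).ι) ψ
        (fun j => sigmaDesc_comp hcoprod (ψ' j) (fun k : {k // k ∈ t j} => (U' j k.1).ι) (hC' j) (hW j)) hC

theorem mem_zariski_iff {X : Over S} {R : Sieve X} :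
    R ∈ Scheme.zariskiTopology.over S X ↔
      ∀ x : X.left, ∃ (Y : Over S) (g : Y ⟶ X) (y : Y.left), R g ∧ IsOpenImmersion g.left ∧ g.left y = x :=
  Groth.L27.Fppf.mem_grothendieck (P := @IsOpenImmersion)

theorem zariski_le
    (haff : ∀ (U : Scheme.{u}) [IsAffine U] (κ : Type u) [Finite κ] (V : κ → U.Opens),
      (∀ j, IsAffineOpen (V j)) → ⨆ j, V j = ⊤ → C (Limits.Sigma.desc fun j => (V j).ι))
    (J : GrothendieckTopology (Over S)) (hJ : ∀ (X : Over S) (R : Sieve X), R ∈ J X ↔ IsCover C X R) :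
    Scheme.zariskiTopology.over S ≤ J := by
  intro X R hR
  refine (hJ X R).2 ⟨{U : X.left.Opens // IsAffineOpen U ∧
    ∃ φ : Over.mk (U.ι ≫ X.hom) ⟶ X, φ.left = U.ι ∧ R φ}, fun U => U.1, fun U => U.2.1, ?_, fun U => ?_⟩
  · refine eq_top_iff.2 fun x _ => ?_
    obtain ⟨Y, g, y, hg, hgo, rfl⟩ := (mem_zariski_iff S).1 hR x
    haveI := hgo
    obtain ⟨U, hU, hxU, hle⟩ := exists_isAffineOpen_mem_and_subset
      (show g.left y ∈ g.left.opensRange from ⟨y, rfl⟩)
    let l : (U : Scheme.{u}) ⟶ Y.left :=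
      IsOpenImmersion.lift g.left U.ι (by rw [Scheme.Opens.range_ι]; exact hle)
    have hl : l ≫ g.left = U.ι := IsOpenImmersion.lift_fac _ _ _
    let L : Over.mk (U.ι ≫ X.hom) ⟶ Y :=
      Over.homMk l ((congrArg (l ≫ ·) (Over.w g).symm).trans
        ((Category.assoc _ _ _).symm.trans (congrArg (· ≫ X.hom) hl)))
    exact TopologicalSpace.Opens.mem_iSup.2 ⟨⟨U, hU, L ≫ g, hl, R.downward_closed hg L⟩, hxU⟩
  obtain ⟨U, hU, φ, hφ, hRφ⟩ := U
  haveI : IsAffine (U : Scheme.{u}) := hU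
  exact ⟨PUnit.{u + 1}, inferInstance, fun _ => Over.mk (U.ι ≫ X.hom), fun _ => φ, fun _ => 𝟙 _,
    fun _ => hU, fun _ => hRφ, fun _ => (Category.id_comp _).trans hφ.symm, sigmaDesc_id haff _⟩

theorem generate_singleton_mem (hqc : ∀ {A B : Scheme.{u}} (f : A ⟶ B), C f → QuasiCompact f)
    (hres : ∀ (W X' : Scheme.{u}) [IsAffine W] (f : X' ⟶ W), C f →
      ∀ (κ : Type u) [Finite κ] (A : κ → X'.Opens), (∀ l, IsAffineOpen (A l)) → ⨆ l, A l = ⊤ →
        C (Limits.Sigma.desc fun l => (A l).ι ≫ f))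
    {X X' : Over S} (f : X' ⟶ X) (hf : C f.left) : IsCover C X (Sieve.generate (Presieve.singleton f)) := by
  refine ⟨{U : X.left.Opens // IsAffineOpen U}, fun U => U.1, fun U => U.2,
    iSup_affineOpens_eq_top X.left, fun ⟨U, hU⟩ => ?_⟩
  haveI : IsAffine (U : Scheme.{u}) := hU
  have hg : C (f.left ∣_ U) := C.of_isPullback (isPullback_morphismRestrict f.left U).flip hf
  haveI := hqc _ hf
  haveI : CompactSpace ↥(f.left ⁻¹ᵁ U : Scheme.{u}) :=
    isCompact_iff_compactSpace.mp (QuasiCompact.isCompact_preimage _ U.isOpen hU.isCompact)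
  have hcovA : (Set.univ : Set ↥(f.left ⁻¹ᵁ U : Scheme.{u})) ⊆
      ⋃ A : {A : (f.left ⁻¹ᵁ U : Scheme.{u}).Opens // IsAffineOpen A}, (A.1 : Set ↥(f.left ⁻¹ᵁ U : Scheme.{u})) := fun x _ => by
    obtain ⟨A, hA⟩ := TopologicalSpace.Opens.mem_iSup.1
      ((iSup_affineOpens_eq_top (f.left ⁻¹ᵁ U : Scheme.{u})).ge (Set.mem_univ x) :)
    exact Set.mem_iUnion.2 ⟨⟨A.1, A.2⟩, hA⟩
  obtain ⟨t, ht⟩ := isCompact_univ.elim_finite_subcover
    (fun A : {A : (f.left ⁻¹ᵁ U : Scheme.{u}).Opens // IsAffineOpen A} => (A.1 : Set ↥(f.left ⁻¹ᵁ U : Scheme.{u})))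
    (fun A => A.1.isOpen) hcovA
  refine ⟨{A // A ∈ t}, inferInstance, fun A => Over.mk ((A.1.1.ι ≫ (f.left ⁻¹ᵁ U).ι) ≫ X'.hom),
    fun A => Over.homMk (A.1.1.ι ≫ (f.left ⁻¹ᵁ U).ι) rfl ≫ f, fun A => A.1.1.ι ≫ (f.left ∣_ U),
    fun A => A.1.2, fun A => ⟨X', _, f, Presieve.singleton_self f, rfl⟩, fun A => ?_, ?_⟩
  · simp
  · refine hres _ _ _ hg _ _ (fun A => A.1.2) (eq_top_iff.2 fun x _ => ?_)
    obtain ⟨A, hA, hx⟩ := Set.mem_iUnion₂.1 (ht (Set.mem_univ x))
    exact TopologicalSpace.Opens.mem_iSup.2 ⟨⟨A, hA⟩, hx⟩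

theorem isSheaf_iff (hqc : ∀ {A B : Scheme.{u}} (f : A ⟶ B), C f → QuasiCompact f)
    (haff : ∀ (U : Scheme.{u}) [IsAffine U] (κ : Type u) [Finite κ] (V : κ → U.Opens),
      (∀ j, IsAffineOpen (V j)) → ⨆ j, V j = ⊤ → C (Limits.Sigma.desc fun j => (V j).ι))
    (hres : ∀ (W X' : Scheme.{u}) [IsAffine W] (f : X' ⟶ W), C f →
      ∀ (κ : Type u) [Finite κ] (A : κ → X'.Opens), (∀ l, IsAffineOpen (A l)) → ⨆ l, A l = ⊤ →
        C (Limits.Sigma.desc fun l => (A l).ι ≫ f))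
    (J : GrothendieckTopology (Over S)) (hJ : ∀ (X : Over S) (R : Sieve X), R ∈ J X ↔ IsCover C X R)
    (F : (Over S)ᵒᵖ ⥤ Type v) :
    Presieve.IsSheaf J F ↔ (Presieve.IsSheaf (Scheme.zariskiTopology.over S) F ∧
      ∀ (X X' : Over S) (f : X' ⟶ X), C f.left → Presieve.IsSheafFor F (Presieve.singleton f)) := by
  constructor
  · exact fun h => ⟨fun X R hR => h R (zariski_le S haff J hJ X hR), fun X X' f hf =>
      (Presieve.isSheafFor_iff_generate _).2 (h _ ((hJ X _).2 (generate_singleton_mem S hqc hres f hf)))⟩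
  rintro ⟨hzar, hsing⟩
  let T := Sheaf.finestTopologySingle F
  have hZ : ∀ {X : Over S} {R : Sieve X}, R ∈ Scheme.zariskiTopology.over S X → R ∈ T X :=
    fun {X R} hR Y g => hzar _ (GrothendieckTopology.pullback_stable _ g hR)
  have hq : ∀ {X X' : Over S} (q : X' ⟶ X), C q.left → Sieve.generate (Presieve.singleton q) ∈ T X := by
    intro X X' q hq Y g
    let P : Over S := Over.mk (pullback.fst g.left q.left ≫ Y.hom)
    let p : P ⟶ Y := Over.homMk (pullback.fst g.left q.left) rfl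
    let r : P ⟶ X' := Over.homMk (pullback.snd g.left q.left) (by
      show _ = pullback.fst g.left q.left ≫ Y.hom
      rw [← Over.w q, ← Over.w g, ← Category.assoc, ← pullback.condition, Category.assoc])
    have hpr : r ≫ q = p ≫ g := Over.OverMorphism.ext pullback.condition.symm
    have e : (Sieve.generate (Presieve.singleton q)).pullback g = Sieve.generate (Presieve.singleton p) := by
      ext Z a
      constructor
      · rintro ⟨_, b, _, ⟨⟩, hb⟩
        let c : Z.left ⟶ pullback g.left q.left :=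
          pullback.lift a.left b.left (congrArg CommaMorphism.left hb).symm
        have hc : c ≫ pullback.fst g.left q.left = a.left := pullback.lift_fst _ _ _
        let c' : Z ⟶ P := Over.homMk c (by
          show c ≫ pullback.fst g.left q.left ≫ _ = Z.hom
          rw [← Category.assoc, hc]
          exact Over.w a)
        exact ⟨P, c', p, Presieve.singleton_self p, Over.OverMorphism.ext hc⟩
      · rintro ⟨_, b, _, ⟨⟩, rfl⟩
        exact ⟨X', b ≫ r, q, Presieve.singleton_self q, by rw [Category.assoc, hpr, Category.assoc]⟩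
    rw [e]
    exact (Presieve.isSheafFor_iff_generate _).1
      (hsing _ _ p (C.of_isPullback (IsPullback.of_hasPullback g.left q.left).flip hq))
  intro X R hR
  suffices h : R ∈ T X by simpa using h X (𝟙 X)
  obtain ⟨ι, U, hU, hcov, hdata⟩ := (hJ X R).1 hR
  let Ui : ι → Over S := fun i => Over.mk ((U i).ι ≫ X.hom)
  let e : ∀ i, Ui i ⟶ X := fun i => Over.homMk (U i).ι rfl
  refine T.transitive (S := Sieve.ofArrows Ui e) (hZ ((mem_zariski_iff S).2 fun x => ?_)) R ?_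
  · obtain ⟨i, hi⟩ := TopologicalSpace.Opens.mem_iSup.1 (hcov.ge (Set.mem_univ x) :)
    exact ⟨Ui i, e i, ⟨x, hi⟩, ⟨_, 𝟙 _, _, ⟨i⟩, Category.id_comp _⟩,
      inferInstanceAs (IsOpenImmersion (U i).ι), rfl⟩
  rintro Z _ ⟨_, b, _, ⟨i⟩, rfl⟩
  rw [Sieve.pullback_comp]
  refine T.pullback_stable b ?_
  obtain ⟨κ, _, V, φ, ψ, -, hRφ, hψ, hC⟩ := hdata i
  let V₀ : Over S := Over.mk (Sigma.desc ψ ≫ (U i).ι ≫ X.hom)
  let q : V₀ ⟶ Ui i := Over.homMk (Sigma.desc ψ) rfl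
  refine T.transitive (hq q hC) _ ?_
  rintro Z' _ ⟨_, c, _, ⟨⟩, rfl⟩
  rw [Sieve.pullback_comp]
  refine T.pullback_stable c (hZ ((mem_zariski_iff S).2 fun x => ?_))
  obtain ⟨j, y, rfl⟩ := (sigmaOpenCover fun j => (V j).left).exists_eq x
  let j' : V j ⟶ V₀ := Over.homMk (Sigma.ι (fun j => (V j).left) j) (by
    show Sigma.ι (fun j => (V j).left) j ≫ Sigma.desc ψ ≫ (U i).ι ≫ X.hom = _
    rw [Sigma.ι_desc_assoc, ← Category.assoc, hψ j]
    exact Over.w (φ j))
  refine ⟨V j, j', y, ?_, inferInstanceAs (IsOpenImmersion (Sigma.ι (fun j => (V j).left) j)), rfl⟩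
  show R.arrows ((j' ≫ q) ≫ e i)
  have h2 : (j' ≫ q) ≫ e i = φ j := Over.OverMorphism.ext (by
    show (Sigma.ι (fun j => (V j).left) j ≫ Sigma.desc ψ) ≫ (U i).ι = _
    rw [Sigma.ι_desc]
    exact hψ j)
  rw [h2]
  exact hRφ j

end Groth.L23.ClassTop
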