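import Groth.Agent.L23.EtaleLift
import Groth.Agent.L05.SmoothLift.Main
import Mathlib.AlgebraicGeometry.Morphisms.Etale
import Mathlib.AlgebraicGeometry.Morphisms.ClosedImmersion

/-!
# Lifting étale and smooth morphisms along closed immersions of affine schemes
-/

universe u

open CategoryTheory CategoryTheory.Limits AlgebraicGeometry

set_option autoImplicit false
set_option backward.isDefEq.respectTransparency.types false

namespace Groth.L23.BigSite

/-- A property of morphisms of schemes lifts along closed immersions of affine schemes. -/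
def LiftsAlongSurj (P : MorphismProperty Scheme.{u}) : Prop :=
  ∀ (A A' B : CommRingCat.{u}) (q : A ⟶ A') (φ : A' ⟶ B), Function.Surjective q.hom →
    P (Spec.map φ) → ∃ (C : CommRingCat.{u}) (ψ : A ⟶ C) (θ : C ⟶ B),
      P (Spec.map ψ) ∧ IsPushout ψ q θ φ

/-- A commutative square with surjective horizontal maps and the expected kernel is a pushout. -/
theorem isPushout_of_ker_eq {A A' B C : CommRingCat.{u}} (ψ : A ⟶ C) (q : A ⟶ A') (θ : C ⟶ B)
    (φ : A' ⟶ B) (hw : ψ ≫ θ = q ≫ φ) (hq : Function.Surjective q.hom)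
    (hθ : Function.Surjective θ.hom) (hk : RingHom.ker θ.hom = (RingHom.ker q.hom).map ψ.hom) :
    IsPushout ψ q θ φ := by
  have hle : ∀ s : PushoutCocone ψ q, RingHom.ker θ.hom ≤ RingHom.ker s.inl.hom := by
    intro s
    rw [hk]
    refine Ideal.map_le_iff_le_comap.2 fun a ha => ?_
    have h := ConcreteCategory.congr_hom s.condition a
    show s.inl.hom (ψ.hom a) = 0
    exact h.trans ((congrArg s.inr.hom (show q.hom a = 0 from ha)).trans (map_zero _))
  let d : ∀ s : PushoutCocone ψ q, B ⟶ s.pt := fun s =>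
    CommRingCat.ofHom (RingHom.liftOfSurjective θ.hom hθ ⟨s.inl.hom, hle s⟩)
  have hd : ∀ (s : PushoutCocone ψ q) (c : C), (d s).hom (θ.hom c) = s.inl.hom c := fun s c =>
    RingHom.liftOfRightInverse_comp_apply θ.hom _ (Function.rightInverse_surjInv hθ) ⟨s.inl.hom, hle s⟩ c
  refine ⟨⟨hw⟩, ⟨PushoutCocone.IsColimit.mk hw d
    (fun s => CommRingCat.hom_ext (RingHom.ext (hd s))) (fun s => ?_) (fun s m h₁ _ => ?_)⟩⟩
  · refine CommRingCat.hom_ext (RingHom.ext fun a' => ?_)
    obtain ⟨a, rfl⟩ := hq a'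
    have h := ConcreteCategory.congr_hom hw a
    show (d s).hom (φ.hom (q.hom a)) = s.inr.hom (q.hom a)
    exact ((congrArg (d s).hom h.symm).trans (hd s _)).trans (ConcreteCategory.congr_hom s.condition a)
  · refine CommRingCat.hom_ext (RingHom.ext fun b => ?_)
    obtain ⟨c, rfl⟩ := hθ b
    exact (ConcreteCategory.congr_hom h₁ c).trans (hd s c).symm

theorem liftsAlongSurj_etale : LiftsAlongSurj.{u} @Etale := by
  intro A A' B q φ hq hφ
  rw [HasRingHomProperty.Spec_iff (P := @Etale)] at hφ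
  algebraize [q.hom, φ.hom, φ.hom.comp q.hom]
  obtain ⟨C, _, _, θ, hC, hθ, hk⟩ := Groth.L23.exists_etale_lift (P := A) (B := A') (C := B) hq
  refine ⟨.of C, CommRingCat.ofHom (algebraMap A C), CommRingCat.ofHom θ.toRingHom, ?_,
    isPushout_of_ker_eq _ _ _ _ (CommRingCat.hom_ext (RingHom.ext fun a => θ.commutes a)) hq hθ hk⟩
  rw [HasRingHomProperty.Spec_iff (P := @Etale)]
  exact RingHom.etale_algebraMap.2 hC

theorem liftsAlongSurj_smooth : LiftsAlongSurj.{u} @Smooth := by
  intro A A' B q φ hq hφ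
  rw [HasRingHomProperty.Spec_iff (P := @Smooth)] at hφ
  let e : (A ⧸ RingHom.ker q.hom) ≃+* A' := RingHom.quotientKerEquivOfSurjective hq
  letI : Algebra A B := (φ.hom.comp q.hom).toAlgebra
  letI : Algebra (A ⧸ RingHom.ker q.hom) B := (φ.hom.comp e.toRingHom).toAlgebra
  haveI : IsScalarTower A (A ⧸ RingHom.ker q.hom) B := IsScalarTower.of_algebraMap_eq' rfl
  haveI : Algebra.Smooth (A ⧸ RingHom.ker q.hom) B :=
    RingHom.smooth_algebraMap.1 (RingHom.Smooth.respectsIso.2 φ.hom e hφ)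
  obtain ⟨C, _, _, θ, hC, hθ, hk⟩ := Groth.L05.SmoothLift.exists_smooth_lift (RingHom.ker q.hom) (A₀ := B)
  refine ⟨.of C, CommRingCat.ofHom (algebraMap A C), CommRingCat.ofHom θ.toRingHom, ?_,
    isPushout_of_ker_eq _ _ _ _ (CommRingCat.hom_ext (RingHom.ext fun a => θ.commutes a)) hq hθ hk⟩
  rw [HasRingHomProperty.Spec_iff (P := @Smooth)]
  exact RingHom.smooth_algebraMap.2 hC

/-- Lifting along a closed immersion of affine schemes. -/
theorem exists_lift {P : MorphismProperty Scheme.{u}} [P.RespectsIso] (hP : LiftsAlongSurj P)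
    {S Z W : Scheme.{u}} [IsAffine S] [IsAffine W] (p : Z ⟶ S) [IsClosedImmersion p] (g : W ⟶ Z)
    (hg : P g) : ∃ (V : Scheme.{u}) (v : V ⟶ S) (i : W ⟶ V), P v ∧ IsPullback i g v p := by
  obtain ⟨hZ, hs⟩ := IsClosedImmersion.isAffine_surjective_of_isAffine p
  obtain ⟨C, ψ, θ, hψ, hpo⟩ := hP _ _ _ p.appTop g.appTop hs
    ((MorphismProperty.arrow_mk_iso_iff P (arrowIsoSpecΓOfIsAffine g)).1 hg)
  let v : Spec C ⟶ S := Spec.map ψ ≫ S.isoSpec.inv
  let i : W ⟶ Spec C := W.isoSpec.hom ≫ Spec.map θ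
  refine ⟨Spec C, v, i, MorphismProperty.RespectsIso.postcomp P _ _ hψ, ?_⟩
  refine IsPullback.of_iso (isPullback_SpecMap_of_isPushout _ _ _ _ hpo) W.isoSpec.symm (Iso.refl _)
    Z.isoSpec.symm S.isoSpec.symm ?_ ?_ ?_ ?_
  · simp [i]
  · exact (Scheme.isoSpec_inv_naturality g).symm ▸ rfl
  · simp [v]
  · exact Scheme.isoSpec_inv_naturality p

end Groth.L23.BigSite
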