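import Groth.Prelude.Def_BigSite
import Groth.Agent.L23.BigSite.ClosedLift
import Groth.Agent.L27.Fppf.Elem
import Mathlib.AlgebraicGeometry.Sites.Etale

/-!
# Base change along a closed immersion is almost cocontinuous on big sites
-/

universe u

open CategoryTheory CategoryTheory.Limits AlgebraicGeometry Opposite

set_option autoImplicit false
set_option backward.isDefEq.respectTransparency.types false

namespace Groth.L23.BigSite

variable (P : MorphismProperty Scheme.{u}) [P.IsStableUnderBaseChange] [P.IsMultiplicative]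
  [IsZariskiLocalAtSource P] [IsZariskiLocalAtTarget P]

theorem bot_mem_of_isEmpty {S : Scheme.{u}} (T : Over S) [IsEmpty T.left] :
    (⊥ : Sieve T) ∈ (Scheme.grothendieckTopology P).over S T :=
  Groth.L27.Fppf.mem_grothendieck.2 fun t => isEmptyElim t

omit [P.IsStableUnderBaseChange] [P.IsMultiplicative] [IsZariskiLocalAtSource P] [IsZariskiLocalAtTarget P] in
theorem overPullback_map_fst {X Y : Scheme.{u}} (f : X ⟶ Y) {A B : Over Y} (k : A ⟶ B) :
    ((Over.pullback f).map k).left ≫ pullback.fst B.hom f = pullback.fst A.hom f ≫ k.left :=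
  pullback.lift_fst _ _ _

/-- The local step of the almost cocontinuity of base change along a closed immersion. -/
theorem exists_answer_at (hP : LiftsAlongSurj P) {X Y : Scheme.{u}} (f : X ⟶ Y) [IsClosedImmersion f]
    (U : Over Y) (R : Sieve ((Over.pullback f).obj U))
    (hR : R ∈ (Scheme.grothendieckTopology P).over X ((Over.pullback f).obj U))
    (z : ((Over.pullback f).obj U).left) :
    ∃ (V : Over Y) (k : V ⟶ U) (v : V.left), R ((Over.pullback f).map k) ∧ P k.left ∧
      k.left v = pullback.fst U.hom f z := by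
  obtain ⟨W, g, w, hg, hgP, rfl⟩ := Groth.L27.Fppf.mem_grothendieck.1 hR z
  let p : ((Over.pullback f).obj U).left ⟶ U.left := pullback.fst U.hom f
  haveI : IsClosedImmersion p := inferInstanceAs (IsClosedImmersion (pullback.fst U.hom f))
  obtain ⟨U₀, hU₀, hzU, -⟩ :=
    exists_isAffineOpen_mem_and_subset (show p (g.left w) ∈ (⊤ : U.left.Opens) from trivial)
  let Z₀ : ((Over.pullback f).obj U).left.Opens := p ⁻¹ᵁ U₀
  obtain ⟨W₀, hW₀, hwW, hWle⟩ :=
    exists_isAffineOpen_mem_and_subset (show w ∈ g.left ⁻¹ᵁ Z₀ from hzU)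
  haveI : IsAffine (U₀ : Scheme.{u}) := hU₀
  haveI : IsAffine (W₀ : Scheme.{u}) := hW₀
  haveI : IsClosedImmersion (p ∣_ U₀) := IsZariskiLocalAtTarget.restrict ‹IsClosedImmersion p› U₀
  obtain ⟨V, v, i, hv, hpb⟩ := exists_lift hP (p ∣_ U₀) (g.left.resLE Z₀ W₀ hWle)
    (IsZariskiLocalAtSource.resLE hWle hgP)
  have hbig : IsPullback i (g.left.resLE Z₀ W₀ hWle ≫ Z₀.ι) (v ≫ U₀.ι) p :=
    hpb.paste_vert (isPullback_morphismRestrict p U₀)
  let V₁ : Over Y := Over.mk ((v ≫ U₀.ι) ≫ U.hom)
  let k : V₁ ⟶ U := Over.homMk (v ≫ U₀.ι) rfl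
  refine ⟨V₁, k, i ⟨w, hwW⟩, ?_, P.comp_mem _ _ hv (IsZariskiLocalAtSource.of_isOpenImmersion U₀.ι), ?_⟩
  · let m := ((Over.pullback f).map k).left
    have hm : pullback.fst V₁.hom f ≫ (v ≫ U₀.ι) = m ≫ p := (overPullback_map_fst f k).symm
    let l : ((Over.pullback f).obj V₁).left ⟶ (W₀ : Scheme.{u}) :=
      hbig.lift (pullback.fst V₁.hom f) m hm
    have hl : (l ≫ W₀.ι) ≫ g.left = m := by
      rw [Category.assoc, ← Scheme.Hom.resLE_comp_ι g.left hWle]
      exact hbig.lift_snd _ _ hm
    let L : (Over.pullback f).obj V₁ ⟶ W := Over.homMk (l ≫ W₀.ι) (by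
      refine (congrArg (_ ≫ ·) (Over.w g).symm).trans ?_
      exact ((Category.assoc _ _ _).symm.trans (congrArg (· ≫ _) hl)).trans
        (Over.w ((Over.pullback f).map k)))
    have hL : L ≫ g = (Over.pullback f).map k := Over.OverMorphism.ext hl
    exact hL ▸ R.downward_closed hg L
  · have h := congrArg (fun t : (W₀ : Scheme.{u}) ⟶ U.left => t ⟨w, hwW⟩) hbig.w
    simp only [Scheme.Hom.comp_apply] at h
    refine h.trans (congrArg p ?_)
    rw [← Scheme.Hom.comp_apply, Scheme.Hom.resLE_comp_ι]
    rfl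

/-- Base change along a closed immersion is almost cocontinuous between big sites. -/
theorem isAlmostCocontinuous_overPullback (hP : LiftsAlongSurj P) {X Y : Scheme.{u}} (f : X ⟶ Y)
    [IsClosedImmersion f] :
    BigSite.IsAlmostCocontinuous (Over.pullback f) ((Scheme.grothendieckTopology P).over Y)
      ((Scheme.grothendieckTopology P).over X) := by
  intro U R hR
  let L := (Scheme.grothendieckTopology P).over X
  let R' : Sieve U :=
    { arrows := fun V g => (⊥ : Sieve ((Over.pullback f).obj V)) ∈ L ((Over.pullback f).obj V) ∨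
        R ((Over.pullback f).map g)
      downward_closed := by
        rintro V V' g (h | h) e
        · left
          have := L.pullback_stable ((Over.pullback f).map e) h
          rwa [Sieve.pullback_bot] at this
        · exact Or.inr (by rw [Functor.map_comp]; exact R.downward_closed h _) }
  refine ⟨R', Groth.L27.Fppf.mem_grothendieck.2 fun x => ?_, fun V g h => h⟩
  by_cases hx : x ∈ Set.range (pullback.fst U.hom f)
  · obtain ⟨z, rfl⟩ := hx
    obtain ⟨V, k, v, hk, hkP, hv⟩ := exists_answer_at P hP f U R hR z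
    exact ⟨V, k, v, Or.inr hk, hkP, hv⟩
  · let O : U.left.Opens := ⟨(Set.range (pullback.fst U.hom f))ᶜ,
      (pullback.fst U.hom f).isClosedEmbedding.isClosed_range.isOpen_compl⟩
    let V : Over Y := Over.mk (O.ι ≫ U.hom)
    let k : V ⟶ U := Over.homMk O.ι rfl
    refine ⟨V, k, ⟨x, hx⟩, Or.inl ?_, IsZariskiLocalAtSource.of_isOpenImmersion O.ι, rfl⟩
    haveI : IsEmpty ((Over.pullback f).obj V).left := ⟨fun q => by
      have h := congrArg (fun t : ((Over.pullback f).obj V).left ⟶ U.left => t q) (overPullback_map_fst f k)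
      simp only [Scheme.Hom.comp_apply] at h
      have hq : (O.ι (pullback.fst V.hom f q)) ∈ O := (pullback.fst V.hom f q).2
      exact hq ⟨_, h⟩⟩
    exact bot_mem_of_isEmpty P _

theorem isAlmostCocontinuous_overPullback_etale_smooth {X Y : Scheme.{u}} (f : X ⟶ Y) [IsClosedImmersion f]
    (K : Precoverage Scheme.{u}) (hK : K = Scheme.etalePrecoverage ∨ K = Scheme.precoverage @Smooth) :
    BigSite.IsAlmostCocontinuous (Over.pullback f) (QuotSh.J K Y) (QuotSh.J K X) := by
  haveI : MorphismProperty.IsMultiplicative (@Smooth : MorphismProperty Scheme.{u}) :=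
    { id_mem := fun S => inferInstanceAs (Smooth (𝟙 S))
      comp_mem := fun a b ha hb => by
        haveI : Smooth a := ha
        haveI : Smooth b := hb
        exact inferInstanceAs (Smooth (a ≫ b)) }
  rcases hK with rfl | rfl
  · exact isAlmostCocontinuous_overPullback @Etale liftsAlongSurj_etale f
  · exact isAlmostCocontinuous_overPullback @Smooth liftsAlongSurj_smooth f

end Groth.L23.BigSite
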