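import Groth.Agent.L23.BigSite.Sections
import Groth.Agent.L27.Fppf.Pull
import Groth.Agent.S0621
import Groth.Agent.S0071

/-!
# Direct images of finite morphisms on small and big étale sites
-/

universe u

open CategoryTheory Limits AlgebraicGeometry Opposite

set_option backward.isDefEq.respectTransparency.types false
set_option linter.style.haveILetI false

namespace Groth.L23.Big

open Groth.L27.Fppf

noncomputable section

local notation "Ke" => Scheme.etalePrecoverage

variable {S T : Scheme.{u}} (f : T ⟶ S) (F : EtCoh.Ab T)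

/-- The target of the comparison. -/
abbrev bigPushG : BigSite.Ab Ke S := (BigSite.pushBig Ke f AddCommGrpCat.{u + 1}).obj (G F)

/-- The identification of the two base changes of an étale scheme. -/
def cU (U : S.Etale) : (Over.pullback f).obj ((EtFppf.a S).obj U) ⟶ (EtFppf.a T).obj ((EtCoh.bc f).obj U) :=
  Over.homMk (𝟙 (pullback U.hom f)) (Category.id_comp _)

/-- The comparison on étale schemes. -/
def cmp₀ : ((EtCoh.push f).obj F).obj ⟶ (EtFppf.a S).op ⋙ (bigPushG f F).obj where
  app U := e F (cU f U.unop)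
  naturality U U' b := by
    refine ConcreteCategory.hom_ext _ _ fun s => ?_
    show e F (cU f U'.unop) (F.obj.map ((EtCoh.bc f).map b.unop).op s) =
      (G F).obj.map ((Over.pullback f).map ((EtFppf.a S).map b.unop)).op (e F (cU f U.unop) s)
    rw [e_nat, e_map]
    refine congrArg (fun c => e F c s) (Over.OverMorphism.ext ?_)
    refine pullback.hom_ext ?_ ?_
    · show (𝟙 _ ≫ ((EtCoh.bc f).map b.unop).left) ≫ pullback.fst U.unop.hom f =
        (pullback.lift (pullback.fst U'.unop.hom f ≫ b.unop.left) (pullback.snd U'.unop.hom f) _ ≫ 𝟙 _) ≫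
          pullback.fst U.unop.hom f
      simp [EtCoh.bc]
      rfl
    · show (𝟙 _ ≫ ((EtCoh.bc f).map b.unop).left) ≫ pullback.snd U.unop.hom f =
        (pullback.lift (pullback.fst U'.unop.hom f ≫ b.unop.left) (pullback.snd U'.unop.hom f) _ ≫ 𝟙 _) ≫
          pullback.snd U.unop.hom f
      simp [EtCoh.bc]
      rfl

/-- The comparison on the left Kan extension. -/
def cmp₁ : L ((EtCoh.push f).obj F) ⟶ (bigPushG f F).obj :=
  (((EtFppf.a S).op.lanAdjunction AddCommGrpCat.{u + 1}).homEquiv _ _).symm (cmp₀ f F)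

/-- The comparison of the direct images. -/
def cmp : G ((EtCoh.push f).obj F) ⟶ bigPushG f F :=
  ⟨sheafifyLift (Jet S) (cmp₁ f F) (bigPushG f F).property⟩

theorem cmp_e {V : Over S} {U : S.Etale} (c : V ⟶ (EtFppf.a S).obj U)
    (s : ((EtCoh.push f).obj F).obj.obj (op U)) :
    (cmp f F).hom.app (op V) (e ((EtCoh.push f).obj F) c s) =
      e F ((Over.pullback f).map c ≫ cU f U) s := by
  have h₀ := ((EtFppf.a S).op.lanAdjunction AddCommGrpCat.{u + 1}).homEquiv _ _ |>.apply_symm_apply (cmp₀ f F)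
  rw [Adjunction.homEquiv_unit, Functor.lanAdjunction_unit] at h₀
  have h₁ : (cmp f F).hom.app (op V) ((toSheafify (Jet S) (L ((EtCoh.push f).obj F))).app (op V)
      (el ((EtCoh.push f).obj F) c s)) = (cmp₁ f F).app (op V) (el ((EtCoh.push f).obj F) c s) :=
    ConcreteCategory.congr_hom (congrArg (fun k => NatTrans.app k (op V))
      (toSheafify_sheafifyLift (Jet S) (cmp₁ f F) (bigPushG f F).property)) _
  refine h₁.trans ((NatTrans.naturality_apply (cmp₁ f F) c.op _).trans ?_)
  refine (congrArg ((bigPushG f F).obj.map c.op) (ConcreteCategory.congr_hom (congrArg (fun k => NatTrans.app k (op U)) h₀) s)).trans ?_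
  exact e_map F ((Over.pullback f).map c) (cU f U) s

section Restrict

variable {S' T' : Scheme.{u}} (g : S' ⟶ S) (g' : T' ⟶ T) (f' : T' ⟶ S') (hsq : IsPullback g' f' f g)

/-- The restriction of the target. -/
abbrev bigPushRes : EtCoh.Ab S' := (BigSite.resEtAlong Ke g).obj (bigPushG f F)

/-- The restriction of the comparison. -/
def resCmp : GT g ((EtCoh.push f).obj F) ⟶ bigPushRes f F g :=
  ⟨Functor.whiskerLeft (cT g).op (cmp f F).hom⟩

/-- Base change of the target. -/
def muMap : (EtCoh.push f').obj (GT g' F) ⟶ bigPushRes f F g :=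
  ⟨Functor.whiskerRight (NatTrans.op (bcEtIso f g g' f' hsq).inv) (G F).obj⟩

theorem isIso_muMap : IsIso (muMap f F g g' f' hsq) := by
  haveI : IsIso ((sheafToPresheaf _ _).map (muMap f F g g' f' hsq)) :=
    inferInstanceAs (IsIso (Functor.whiskerRight (NatTrans.op (bcEtIso f g g' f' hsq).inv) (G F).obj))
  exact isIso_of_fully_faithful (sheafToPresheaf _ _) _

/-- The comparison of iterated base changes. -/
def rMap (U : S.Etale) : (EtCoh.bc f').obj ((EtCoh.bc g).obj U) ⟶ (EtCoh.bc g').obj ((EtCoh.bc f).obj U) :=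
  (MorphismProperty.Over.pullbackComp (P := EtCoh.etaleMP.{u}) (Q := ⊤) f' g).inv.app U ≫
    (MorphismProperty.Over.pullbackCongr (P := EtCoh.etaleMP.{u}) (Q := ⊤) hsq.w).inv.app U ≫
      (MorphismProperty.Over.pullbackComp (P := EtCoh.etaleMP.{u}) (Q := ⊤) g' f).hom.app U

theorem congr_inv_fst {A B : Scheme.{u}} {p q : A ⟶ B} (h : p = q) (U : B.Etale) :
    ((MorphismProperty.Over.pullbackCongr (P := EtCoh.etaleMP.{u}) (Q := ⊤) h).inv.app U).left ≫
      pullback.fst U.hom p = pullback.fst U.hom q := by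
  subst h
  simp [MorphismProperty.Over.pullbackCongr]
  exact Category.id_comp _

theorem comp_inv_fst {A B C : Scheme.{u}} (p : A ⟶ B) (q : B ⟶ C) (U : C.Etale) :
    ((MorphismProperty.Over.pullbackComp (P := EtCoh.etaleMP.{u}) (Q := ⊤) p q).inv.app U).left ≫
      pullback.fst U.hom (p ≫ q) = pullback.fst (pullback.snd U.hom q) p ≫ pullback.fst U.hom q := by
  simp
  exact pullbackLeftPullbackSndIso_hom_fst _ _ _

theorem rMap_fst (U : S.Etale) :
    (rMap f g g' f' hsq U).left ≫ pullback.fst ((EtCoh.bc f).obj U).hom g' ≫ pullback.fst U.hom f =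
      pullback.fst ((EtCoh.bc g).obj U).hom f' ≫ pullback.fst U.hom g := by
  have h₁ := MorphismProperty.Over.pullbackComp_left_fst_fst (P := EtCoh.etaleMP.{u}) (Q := ⊤) g' f U
  have h₂ := congr_inv_fst hsq.w U
  have h₃ := comp_inv_fst f' g U
  show (((MorphismProperty.Over.pullbackComp (P := EtCoh.etaleMP.{u}) (Q := ⊤) f' g).inv.app U).left ≫
      ((MorphismProperty.Over.pullbackCongr (P := EtCoh.etaleMP.{u}) (Q := ⊤) hsq.w).inv.app U).left ≫
      ((MorphismProperty.Over.pullbackComp (P := EtCoh.etaleMP.{u}) (Q := ⊤) g' f).hom.app U).left) ≫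
      pullback.fst (pullback.snd U.hom f) g' ≫ pullback.fst U.hom f =
    pullback.fst (pullback.snd U.hom g) f' ≫ pullback.fst U.hom g
  refine (Category.assoc _ _ _).trans ((congrArg (_ ≫ ·) ((Category.assoc _ _ _).trans
    ((congrArg (_ ≫ ·) h₁).trans h₂))).trans h₃)

theorem baseChange0_unit (U : S.Etale) (s : ((EtCoh.push f).obj F).obj.obj (op U)) :
    (EtCoh.baseChange0 f g f' g' hsq.w F).hom.app (op ((EtCoh.bc g).obj U))
      (((EtCoh.pullPushAdj g).unit.app ((EtCoh.push f).obj F)).hom.app (op U) s) =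
    ((EtCoh.pull g').obj F).obj.map (rMap f g g' f' hsq U).op
      (((EtCoh.pullPushAdj g').unit.app F).hom.app (op ((EtCoh.bc f).obj U)) s) := by
  have h := ((EtCoh.pullPushAdj g).homEquiv _ _).apply_symm_apply
    ((EtCoh.push f).map ((EtCoh.pullPushAdj g').unit.app F) ≫ (EtCoh.pushComp f g').hom.app _ ≫
      (EtCoh.pushCongr hsq.w).hom.app _ ≫ (EtCoh.pushComp g f').inv.app _)
  rw [Adjunction.homEquiv_unit] at h
  refine (congrArg (fun z : (EtCoh.push f).obj F ⟶ (EtCoh.push g).obj ((EtCoh.push f').obj ((EtCoh.pull g').obj F)) =>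
    z.hom.app (op U) s) h).trans ?_
  dsimp [EtCoh.pushComp, EtCoh.pushCongr, rMap]
  simp [Functor.map_comp]
  rfl

theorem cmp_baseChange (U : S.Etale) :
    (bcEtIso f g g' f' hsq).inv.app ((EtCoh.bc g).obj U) ≫ (cT g').map (rMap f g g' f' hsq U) ≫
        pr g' ((EtCoh.bc f).obj U) =
      (Over.pullback f).map (pr g U) ≫ cU f U := by
  refine Over.OverMorphism.ext (pullback.hom_ext ?_ ?_)
  · show (((bcEtIso f g g' f' hsq).inv.app ((EtCoh.bc g).obj U)).left ≫ (rMap f g g' f' hsq U).left ≫
        pullback.fst ((EtCoh.bc f).obj U).hom g') ≫ pullback.fst U.hom f =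
      (pullback.lift (pullback.fst (((EtCoh.bc g).obj U).hom ≫ g) f ≫ pullback.fst U.hom g)
        (pullback.snd (((EtCoh.bc g).obj U).hom ≫ g) f) _ ≫ 𝟙 _) ≫ pullback.fst U.hom f
    simp only [Category.assoc, Category.id_comp]
    erw [rMap_fst f g g' f' hsq U]
    erw [pullback.lift_fst]
    refine (Category.assoc _ _ _).symm.trans (congrArg (· ≫ pullback.fst U.hom g) ?_)
    exact (isPullback_paste f g g' f' hsq ((EtFppf.a S').obj ((EtCoh.bc g).obj U))).isoPullback_inv_fst
  · exact (Over.w ((bcEtIso f g g' f' hsq).inv.app ((EtCoh.bc g).obj U) ≫ (cT g').map (rMap f g g' f' hsq U) ≫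
      pr g' ((EtCoh.bc f).obj U))).trans (Over.w ((Over.pullback f).map (pr g U) ≫ cU f U)).symm

theorem resCmp_eq :
    theta g ((EtCoh.push f).obj F) ≫ resCmp f F g =
      EtCoh.baseChange0 f g f' g' hsq.w F ≫ (EtCoh.push f').map (theta g' F) ≫ muMap f F g g' f' hsq := by
  apply ((EtCoh.pullPushAdj g).homEquiv _ _).injective
  rw [Adjunction.homEquiv_unit, Adjunction.homEquiv_unit]
  refine Sheaf.hom_ext (NatTrans.ext (funext fun U => ConcreteCategory.hom_ext _ _ fun s => ?_))
  show (cmp f F).hom.app _ ((theta g ((EtCoh.push f).obj F)).hom.app (op ((EtCoh.bc g).obj U.unop))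
      (((EtCoh.pullPushAdj g).unit.app ((EtCoh.push f).obj F)).hom.app (op U.unop) s)) =
    (G F).obj.map ((bcEtIso f g g' f' hsq).inv.app ((EtCoh.bc g).obj U.unop)).op
      ((theta g' F).hom.app (op ((EtCoh.bc f').obj ((EtCoh.bc g).obj U.unop)))
        ((EtCoh.baseChange0 f g f' g' hsq.w F).hom.app (op ((EtCoh.bc g).obj U.unop))
          (((EtCoh.pullPushAdj g).unit.app ((EtCoh.push f).obj F)).hom.app (op U.unop) s)))
  rw [theta_eta, baseChange0_unit f F g g' f' hsq U.unop s, theta_map_eta, e_map, cmp_baseChange f g g' f' hsq U.unop]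
  exact cmp_e f F (pr g U.unop) s

end Restrict

theorem isIso_cmp [IsFinite f] : IsIso (cmp f F) := by
  haveI : ∀ V, IsIso ((cmp f F).hom.app V) := fun V => by
    let g := V.unop.hom
    let hsq : IsPullback (pullback.fst f g) (pullback.snd f g) f g := IsPullback.of_hasPullback f g
    haveI := Groth.Agent.S0621.result f g (pullback.snd f g) (pullback.fst f g) hsq F
    haveI := isIso_theta g ((EtCoh.push f).obj F)
    haveI := isIso_theta (pullback.fst f g) F
    haveI := isIso_muMap f F g (pullback.fst f g) (pullback.snd f g) hsq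
    haveI : IsIso (theta g ((EtCoh.push f).obj F) ≫ resCmp f F g) := by
      rw [resCmp_eq f F g (pullback.fst f g) (pullback.snd f g) hsq]
      infer_instance
    haveI : IsIso (resCmp f F g) := IsIso.of_isIso_comp_left (theta g ((EtCoh.push f).obj F)) _
    haveI : IsIso (((sheafToPresheaf _ _).map (resCmp f F g)).app (op (EtCoh.top V.unop.left))) := inferInstance
    let i : (cT g).obj (EtCoh.top V.unop.left) ≅ V.unop :=
      Over.isoMk (Iso.refl _) ((Category.id_comp g).trans (Category.id_comp g).symm)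
    haveI : IsIso ((cmp f F).hom.app (op ((cT g).obj (EtCoh.top V.unop.left)))) :=
      ‹IsIso (((sheafToPresheaf _ _).map (resCmp f F g)).app (op (EtCoh.top V.unop.left)))›
    have hn := (cmp f F).hom.naturality i.hom.op
    haveI : IsIso ((cmp f F).hom.app V ≫ (bigPushG f F).obj.map i.hom.op) := by
      rw [show (cmp f F).hom.app V ≫ (bigPushG f F).obj.map i.hom.op = _ from hn.symm]
      infer_instance
    exact IsIso.of_isIso_comp_right _ ((bigPushG f F).obj.map i.hom.op)
  haveI : IsIso ((sheafToPresheaf _ _).map (cmp f F)) := NatIso.isIso_of_isIso_app (cmp f F).hom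
  exact isIso_of_fully_faithful (sheafToPresheaf _ _) _

theorem nonempty_piEtPull_Rpush_finite [IsFinite f] (q : ℕ) :
    Nonempty ((BigSite.piEtPull Ke S).obj ((EtCoh.Rpush f q).obj F) ≅
      (BigSite.RpushBig Ke f q).obj ((BigSite.piEtPull Ke T).obj F)) := by
  rcases Nat.eq_zero_or_pos q with rfl | hq
  · haveI := isIso_cmp f F
    haveI : PreservesFiniteLimits (EtCoh.push f) :=
      haveI := (EtCoh.pullPushAdj f).rightAdjoint_preservesLimits
      inferInstance
    haveI : PreservesFiniteLimits (BigSite.pushBig Ke f AddCommGrpCat.{u + 1}) :=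
      haveI := (BigSite.bigAdj Ke f AddCommGrpCat.{u + 1}).rightAdjoint_preservesLimits
      inferInstance
    exact ⟨(BigSite.piEtPull Ke S).mapIso ((EtCoh.push f).rightDerivedZeroIsoSelf.app F) ≪≫
      piEtPullGIso _ ≪≫ @asIso _ _ _ _ (cmp f F) (isIso_cmp f F) ≪≫
      (BigSite.pushBig Ke f AddCommGrpCat.{u + 1}).mapIso (piEtPullGIso F).symm ≪≫
      ((BigSite.pushBig Ke f AddCommGrpCat.{u + 1}).rightDerivedZeroIsoSelf.app _).symm⟩
  · have h₁ : IsZero ((BigSite.piEtPull Ke S).obj ((EtCoh.Rpush f q).obj F)) :=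
      (BigSite.piEtPull Ke S).map_isZero (Groth.Agent.S0071.result f F q hq)
    refine ⟨h₁.iso ?_⟩
    let P := (BigSite.RpushBig Ke f q).obj ((BigSite.piEtPull Ke T).obj F)
    show IsZero P
    rw [IsZero.iff_id_eq_zero]
    refine Sheaf.hom_ext (NatTrans.ext (funext fun V => ConcreteCategory.hom_ext _ _ fun x => ?_))
    let g := V.unop.hom
    have hsq : IsPullback (pullback.fst f g) (pullback.snd f g) f g := IsPullback.of_hasPullback f g
    obtain ⟨α⟩ := nonempty_resEtAlong_Rpush f g (pullback.fst f g) (pullback.snd f g) hsq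
      ((BigSite.piEtPull Ke T).obj F) q
    haveI : IsFinite (pullback.snd f g) := inferInstance
    have h0 : IsZero ((BigSite.resEtAlong Ke g).obj P) :=
      (Groth.Agent.S0071.result (pullback.snd f g) _ q hq).of_iso α
    have h0' := (sheafSections _ AddCommGrpCat.{u + 1} |>.obj (op (EtCoh.top V.unop.left))).map_isZero h0
    haveI : Subsingleton (P.obj.obj (op ((cT g).obj (EtCoh.top V.unop.left)))) :=
      AddCommGrpCat.subsingleton_of_isZero h0'
    let i : (cT g).obj (EtCoh.top V.unop.left) ≅ V.unop :=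
      Over.isoMk (Iso.refl _) ((Category.id_comp g).trans (Category.id_comp g).symm)
    haveI : Subsingleton (P.obj.obj V) :=
      (P.obj.mapIso i.op).addCommGroupIsoToAddEquiv.toEquiv.subsingleton
    exact Subsingleton.elim _ _

end

end Groth.L23.Big
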