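import Groth.Agent.L23.BigSite.Finite
import Groth.Agent.L27.BigSets.Pull
import Groth.Agent.L27.BigSets.ProperBC

/-!
# Direct images of proper morphisms on small and big étale sites: sheaves of sets
-/

universe u

open CategoryTheory Limits AlgebraicGeometry Opposite

set_option backward.isDefEq.respectTransparency.types false
set_option linter.style.haveILetI false

namespace Groth.L23.BigSetsCmp

open Groth.L27.BigSets
open Groth.L27.Fppf (Jet cT compatiblePreserving_cT pr pr_naturality)
open Groth.L23.Big (cU rMap cmp_baseChange bcEtIso isPullback_paste rMap_fst)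

noncomputable section

local notation "Ke" => Scheme.etalePrecoverage

variable {S T : Scheme.{u}} (f : T ⟶ S) (F : EtDesc.Sh T)

/-- The target of the comparison. -/
abbrev bigPushG : Sheaf (Jet S) (Type (u + 1)) := (BigSite.pushBig Ke f (Type (u + 1))).obj (G F)

/-- The comparison on étale schemes. -/
def cmp₀ : ((EtDesc.pushSh f).obj F).obj ⟶ (EtFppf.a S).op ⋙ (bigPushG f F).obj where
  app U := e F (cU f U.unop)
  naturality U U' b := by
    refine ConcreteCategory.hom_ext _ _ fun s => ?_
    show e F (cU f U'.unop) (F.obj.map ((EtCoh.bc f).map b.unop).op s) =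
      (G F).obj.map ((Over.pullback f).map ((EtFppf.a S).map b.unop)).op (e F (cU f U.unop) s)
    rw [e_nat, e_map]
    refine congrArg (fun c => e F c s) (Over.OverMorphism.ext ?_)
    refine pullback.hom_ext ?_ ?_
    · show (𝟙 _ ≫ ((EtCoh.bc f).map b.unop).left) ≫ pullback.fst U.unop.hom f =
        (pullback.lift (pullback.fst U'.unop.hom f ≫ b.unop.left) (pullback.snd U'.unop.hom f) _ ≫ 𝟙 _) ≫
          pullback.fst U.unop.hom f
      simp [EtCoh.bc]
      rfl
    · show (𝟙 _ ≫ ((EtCoh.bc f).map b.unop).left) ≫ pullback.snd U.unop.hom f =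
        (pullback.lift (pullback.fst U'.unop.hom f ≫ b.unop.left) (pullback.snd U'.unop.hom f) _ ≫ 𝟙 _) ≫
          pullback.snd U.unop.hom f
      simp [EtCoh.bc]
      rfl

/-- The comparison on the left Kan extension. -/
def cmp₁ : L ((EtDesc.pushSh f).obj F) ⟶ (bigPushG f F).obj :=
  (((EtFppf.a S).op.lanAdjunction (Type (u + 1))).homEquiv _ _).symm (cmp₀ f F)

/-- The comparison of the direct images. -/
def cmp : G ((EtDesc.pushSh f).obj F) ⟶ bigPushG f F :=
  ⟨sheafifyLift (Jet S) (cmp₁ f F) (bigPushG f F).property⟩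

theorem cmp_e {V : Over S} {U : S.Etale} (c : V ⟶ (EtFppf.a S).obj U)
    (s : ((EtDesc.pushSh f).obj F).obj.obj (op U)) :
    (cmp f F).hom.app (op V) (e ((EtDesc.pushSh f).obj F) c s) =
      e F ((Over.pullback f).map c ≫ cU f U) s := by
  have h₀ := ((EtFppf.a S).op.lanAdjunction (Type (u + 1))).homEquiv _ _ |>.apply_symm_apply (cmp₀ f F)
  rw [Adjunction.homEquiv_unit, Functor.lanAdjunction_unit] at h₀
  have h₁ : (cmp f F).hom.app (op V) ((toSheafify (Jet S) (L ((EtDesc.pushSh f).obj F))).app (op V)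
      (el ((EtDesc.pushSh f).obj F) c s)) = (cmp₁ f F).app (op V) (el ((EtDesc.pushSh f).obj F) c s) :=
    ConcreteCategory.congr_hom (congrArg (fun k => NatTrans.app k (op V))
      (toSheafify_sheafifyLift (Jet S) (cmp₁ f F) (bigPushG f F).property)) _
  refine h₁.trans ((NatTrans.naturality_apply (cmp₁ f F) c.op _).trans ?_)
  refine (congrArg ((bigPushG f F).obj.map c.op) (ConcreteCategory.congr_hom (congrArg (fun k => NatTrans.app k (op U)) h₀) s)).trans ?_
  exact e_map F ((Over.pullback f).map c) (cU f U) s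

section Restrict

variable {S' T' : Scheme.{u}} (g : S' ⟶ S) (g' : T' ⟶ T) (f' : T' ⟶ S') (hsq : IsPullback g' f' f g)

/-- The restriction of the target. -/
abbrev bigPushRes : EtDesc.Sh S' := haveI := compatiblePreserving_cT g
  ((cT g).sheafPushforwardContinuous (Type (u + 1)) S'.smallEtaleTopology (Jet S)).obj (bigPushG f F)

/-- The restriction of the comparison. -/
def resCmp : GT g ((EtDesc.pushSh f).obj F) ⟶ bigPushRes f F g :=
  ⟨Functor.whiskerLeft (cT g).op (cmp f F).hom⟩

/-- Base change of the target. -/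
def muMap : (EtDesc.pushSh f').obj (GT g' F) ⟶ bigPushRes f F g :=
  ⟨Functor.whiskerRight (NatTrans.op (bcEtIso f g g' f' hsq).inv) (G F).obj⟩

theorem isIso_muMap : IsIso (muMap f F g g' f' hsq) := by
  haveI : IsIso ((sheafToPresheaf _ _).map (muMap f F g g' f' hsq)) :=
    inferInstanceAs (IsIso (Functor.whiskerRight (NatTrans.op (bcEtIso f g g' f' hsq).inv) (G F).obj))
  exact isIso_of_fully_faithful (sheafToPresheaf _ _) _

theorem baseChange0_unit (U : S.Etale) (s : ((EtDesc.pushSh f).obj F).obj.obj (op U)) :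
    (EtBC.baseChange0Sh f g f' g' hsq.w F).hom.app (op ((EtCoh.bc g).obj U))
      (((EtDesc.adjSh g).unit.app ((EtDesc.pushSh f).obj F)).hom.app (op U) s) =
    ((EtDesc.pullSh g').obj F).obj.map (rMap f g g' f' hsq U).op
      (((EtDesc.adjSh g').unit.app F).hom.app (op ((EtCoh.bc f).obj U)) s) := by
  have h := ((EtDesc.adjSh g).homEquiv _ _).apply_symm_apply
    ((EtDesc.pushSh f).map ((EtDesc.adjSh g').unit.app F) ≫ (EtDesc.pushCompSh f g').hom.app _ ≫
      (EtBC.pushCongrSh hsq.w).hom.app _ ≫ (EtDesc.pushCompSh g f').inv.app _)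
  rw [Adjunction.homEquiv_unit] at h
  refine (congrArg (fun z : (EtDesc.pushSh f).obj F ⟶ (EtDesc.pushSh g).obj ((EtDesc.pushSh f').obj ((EtDesc.pullSh g').obj F)) =>
    z.hom.app (op U) s) h).trans ?_
  dsimp [EtDesc.pushCompSh, EtBC.pushCongrSh, rMap]
  simp [Functor.map_comp]
  rfl

theorem resCmp_eq :
    theta g ((EtDesc.pushSh f).obj F) ≫ resCmp f F g =
      EtBC.baseChange0Sh f g f' g' hsq.w F ≫ (EtDesc.pushSh f').map (theta g' F) ≫ muMap f F g g' f' hsq := by
  apply ((EtDesc.adjSh g).homEquiv _ _).injective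
  rw [Adjunction.homEquiv_unit, Adjunction.homEquiv_unit]
  refine Sheaf.hom_ext (NatTrans.ext (funext fun U => ConcreteCategory.hom_ext _ _ fun s => ?_))
  show (cmp f F).hom.app _ ((theta g ((EtDesc.pushSh f).obj F)).hom.app (op ((EtCoh.bc g).obj U.unop))
      (((EtDesc.adjSh g).unit.app ((EtDesc.pushSh f).obj F)).hom.app (op U.unop) s)) =
    (G F).obj.map ((bcEtIso f g g' f' hsq).inv.app ((EtCoh.bc g).obj U.unop)).op
      ((theta g' F).hom.app (op ((EtCoh.bc f').obj ((EtCoh.bc g).obj U.unop)))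
        ((EtBC.baseChange0Sh f g f' g' hsq.w F).hom.app (op ((EtCoh.bc g).obj U.unop))
          (((EtDesc.adjSh g).unit.app ((EtDesc.pushSh f).obj F)).hom.app (op U.unop) s)))
  rw [theta_eta, baseChange0_unit f F g g' f' hsq U.unop s, theta_map_eta, e_map, cmp_baseChange f g g' f' hsq U.unop]
  exact cmp_e f F (pr g U.unop) s

end Restrict


theorem isIso_cmp [IsProper f] : IsIso (cmp f F) := by
  haveI : ∀ V, IsIso ((cmp f F).hom.app V) := fun V => by
    let g := V.unop.hom
    let hsq : IsPullback (pullback.fst f g) (pullback.snd f g) f g := IsPullback.of_hasPullback f g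
    haveI := isIso_baseChange0Sh hsq F
    haveI := isIso_theta g ((EtDesc.pushSh f).obj F)
    haveI := isIso_theta (pullback.fst f g) F
    haveI := isIso_muMap f F g (pullback.fst f g) (pullback.snd f g) hsq
    haveI : IsIso (theta g ((EtDesc.pushSh f).obj F) ≫ resCmp f F g) := by
      rw [resCmp_eq f F g (pullback.fst f g) (pullback.snd f g) hsq]
      infer_instance
    haveI : IsIso (resCmp f F g) := IsIso.of_isIso_comp_left (theta g ((EtDesc.pushSh f).obj F)) _
    haveI : IsIso (((sheafToPresheaf _ _).map (resCmp f F g)).app (op (EtCoh.top V.unop.left))) := inferInstance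
    let i : (cT g).obj (EtCoh.top V.unop.left) ≅ V.unop :=
      Over.isoMk (Iso.refl _) ((Category.id_comp g).trans (Category.id_comp g).symm)
    haveI : IsIso ((cmp f F).hom.app (op ((cT g).obj (EtCoh.top V.unop.left)))) :=
      ‹IsIso (((sheafToPresheaf _ _).map (resCmp f F g)).app (op (EtCoh.top V.unop.left)))›
    have hn := (cmp f F).hom.naturality i.hom.op
    haveI : IsIso ((cmp f F).hom.app V ≫ (bigPushG f F).obj.map i.hom.op) := by
      rw [show (cmp f F).hom.app V ≫ (bigPushG f F).obj.map i.hom.op = _ from hn.symm]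
      infer_instance
    exact IsIso.of_isIso_comp_right _ ((bigPushG f F).obj.map i.hom.op)
  haveI : IsIso ((sheafToPresheaf _ _).map (cmp f F)) := NatIso.isIso_of_isIso_app (cmp f F).hom
  exact isIso_of_fully_faithful (sheafToPresheaf _ _) _

/-- The functor `F ↦ G F`. -/
abbrev GFun (S : Scheme.{u}) : EtDesc.Sh S ⥤ Sheaf (Jet S) (Type (u + 1)) :=
  sheafToPresheaf _ _ ⋙ (EtFppf.a S).op.lan ⋙ presheafToSheaf (Jet S) (Type (u + 1))

theorem hom_ext_e {S : Scheme.{u}} {F : EtDesc.Sh S} {H : Sheaf (Jet S) (Type (u + 1))} {a b : G F ⟶ H}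
    (h : ∀ (V : Over S) (U : S.Etale) (c : V ⟶ (EtFppf.a S).obj U) (s : F.obj.obj (op U)),
      a.hom.app (op V) (e F c s) = b.hom.app (op V) (e F c s)) : a = b := by
  refine Sheaf.hom_ext (sheafify_hom_ext (Jet S) _ _ H.property (NatTrans.ext (funext fun V =>
    ConcreteCategory.hom_ext _ _ fun z => ?_)))
  obtain ⟨U, c, s, rfl⟩ := el_surj F (T := V.unop) z
  exact h V.unop U c s

theorem GFun_map_e {S : Scheme.{u}} {F F' : EtDesc.Sh S} (φ : F ⟶ F') {V : Over S} {U : S.Etale}
    (c : V ⟶ (EtFppf.a S).obj U) (s : F.obj.obj (op U)) :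
    ((GFun S).map φ).hom.app (op V) (e F c s) = e F' c (φ.hom.app (op U) s) := by
  have h₁ := ConcreteCategory.congr_hom (congrArg (fun k => NatTrans.app k (op V))
    (toSheafify_naturality (Jet S) ((EtFppf.a S).op.lan.map φ.hom))) (el F c s)
  refine h₁.symm.trans (congrArg ((toSheafify (Jet S) (L F')).app (op V)) ?_)
  have h₂ := ConcreteCategory.congr_hom (congrArg (fun k => NatTrans.app k (op U))
    ((EtFppf.a S).op.lanUnit.naturality φ.hom)) s
  refine (NatTrans.naturality_apply ((EtFppf.a S).op.lan.map φ.hom) c.op _).trans ?_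
  exact congrArg ((L F').map c.op) h₂.symm

/-- The comparison as a natural transformation. -/
def cmpNat : EtDesc.pushSh f ⋙ GFun S ⟶ GFun T ⋙ BigSite.pushBig Ke f (Type (u + 1)) where
  app F := cmp f F
  naturality F F' φ := hom_ext_e fun V U c s => by
    show (cmp f F').hom.app (op V) (((GFun S).map ((EtDesc.pushSh f).map φ)).hom.app (op V) (e _ c s)) =
      ((GFun T).map φ).hom.app (op ((Over.pullback f).obj V)) ((cmp f F).hom.app (op V) (e _ c s))
    rw [GFun_map_e, cmp_e, cmp_e]
    exact (GFun_map_e φ _ _).symm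

theorem nonempty_iso [IsProper f] :
    Nonempty
      (((EtCoh.bc f).sheafPushforwardContinuous (Type (u + 1)) S.smallEtaleTopology T.smallEtaleTopology) ⋙
          (EtFppf.a S).sheafPullback (Type (u + 1)) S.smallEtaleTopology (QuotSh.J Ke S) ≅
        (EtFppf.a T).sheafPullback (Type (u + 1)) T.smallEtaleTopology (QuotSh.J Ke T) ⋙
          BigSite.pushBig Ke f (Type (u + 1))) := by
  haveI : ∀ F, IsIso ((cmpNat f).app F) := fun F => isIso_cmp f F
  have hi : IsIso (cmpNat f) := NatIso.isIso_of_isIso_app _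
  exact ⟨Functor.isoWhiskerLeft (EtDesc.pushSh f)
      (Functor.sheafPullbackConstruction.sheafPullbackIso (EtFppf.a S) (Type (u + 1))
        S.smallEtaleTopology (QuotSh.J Ke S)) ≪≫ @asIso _ _ _ _ (cmpNat f) hi ≪≫
    Functor.isoWhiskerRight (Functor.sheafPullbackConstruction.sheafPullbackIso (EtFppf.a T) (Type (u + 1))
        T.smallEtaleTopology (QuotSh.J Ke T)).symm (BigSite.pushBig Ke f (Type (u + 1)))⟩

end

end Groth.L23.BigSetsCmp
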