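import Groth.Agent.L23.BigSite.Finite
import Groth.Agent.L27.BigSets.ProperBC
import Groth.Agent.L27.PBC.TorRes
import Groth.Agent.L27.PBC.BaseChangeVanish
import Groth.Agent.L27.PBC.AcycTranspose

/-!
# Higher direct images of proper morphisms on small and big étale sites
-/

universe u v v₁

open CategoryTheory Limits AlgebraicGeometry Opposite

set_option backward.isDefEq.respectTransparency false
set_option backward.defeqAttrib.useBackward true
set_option backward.isDefEq.respectTransparency.types false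
set_option linter.style.haveILetI false
set_option linter.unusedSectionVars false

namespace Groth.L23.Big

open Groth.L27.Fppf

noncomputable section

/-- Derived functors computed on a resolution by acyclic objects. -/
theorem nonempty_rightDerived_of_acyclic {B : Type*} [Category B] [Abelian B] [EnoughInjectives B]
    {C : Type*} [Category C] [Abelian C] (Ψ : B ⥤ C) [Ψ.Additive] [PreservesFiniteLimits Ψ]
    (X : B) (K : CochainComplex B ℕ) (aug : (CochainComplex.single₀ B).obj X ⟶ K) [QuasiIso aug]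
    (hK : ∀ n, L17.GrothSS.RAcyclic Ψ (K.X n)) (q : ℕ) :
    Nonempty ((Ψ.rightDerived q).obj X ≅
      (HomologicalComplex.homologyFunctor C _ q).obj ((Ψ.mapHomologicalComplex _).obj K)) := by
  let I := injectiveResolution X
  let c : K ⟶ I.cocomplex := RDer.descToInjectives (𝟙 X) K aug I.cocomplex I.ι
  have hc : aug.f 0 ≫ c.f 0 = I.ι.f 0 :=
    (RDer.ι_descToInjectives_f_zero _ _ _ _ _).trans (Category.id_comp _)
  haveI : QuasiIso c := by
    have h : aug ≫ c = I.ι := (CochainComplex.fromSingle₀Equiv _ _).injective (Subtype.ext hc)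
    haveI : QuasiIso (aug ≫ c) := by rw [h]; infer_instance
    exact quasiIso_of_comp_left aug c
  have h := L27.PBC.isIso_homology_map Ψ c hK
    (fun n => haveI := I.injective n; L27.PBC.rAcyclic_of_injective Ψ _) q
  exact ⟨I.isoRightDerivedObj Ψ q ≪≫ (@asIso _ _ _ _ _ h).symm⟩

local notation "Ke" => Scheme.etalePrecoverage

variable {S T : Scheme.{u}} (f : T ⟶ S)

theorem isIso_cmp_of_isProper [IsProper f] (F : EtCoh.Ab T) : IsIso (cmp f F) := by
  haveI : ∀ V, IsIso ((cmp f F).hom.app V) := fun V => by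
    let g := V.unop.hom
    let hsq : IsPullback (pullback.fst f g) (pullback.snd f g) f g := IsPullback.of_hasPullback f g
    haveI := Groth.L27.BigSets.isIso_baseChange0 hsq F
    haveI := isIso_theta g ((EtCoh.push f).obj F)
    haveI := isIso_theta (pullback.fst f g) F
    haveI := isIso_muMap f F g (pullback.fst f g) (pullback.snd f g) hsq
    haveI : IsIso (theta g ((EtCoh.push f).obj F) ≫ resCmp f F g) := by
      rw [resCmp_eq f F g (pullback.fst f g) (pullback.snd f g) hsq]
      infer_instance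
    haveI : IsIso (resCmp f F g) := IsIso.of_isIso_comp_left (theta g ((EtCoh.push f).obj F)) _
    haveI : IsIso (((sheafToPresheaf _ _).map (resCmp f F g)).app (op (EtCoh.top V.unop.left))) := inferInstance
    let i : (cT g).obj (EtCoh.top V.unop.left) ≅ V.unop :=
      Over.isoMk (Iso.refl _) ((Category.id_comp g).trans (Category.id_comp g).symm)
    haveI : IsIso ((cmp f F).hom.app (op ((cT g).obj (EtCoh.top V.unop.left)))) :=
      ‹IsIso (((sheafToPresheaf _ _).map (resCmp f F g)).app (op (EtCoh.top V.unop.left)))›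
    have hn := (cmp f F).hom.naturality i.hom.op
    haveI : IsIso ((cmp f F).hom.app V ≫ (bigPushG f F).obj.map i.hom.op) := by
      rw [show (cmp f F).hom.app V ≫ (bigPushG f F).obj.map i.hom.op = _ from hn.symm]
      infer_instance
    exact IsIso.of_isIso_comp_right _ ((bigPushG f F).obj.map i.hom.op)
  haveI : IsIso ((sheafToPresheaf _ _).map (cmp f F)) := NatIso.isIso_of_isIso_app (cmp f F).hom
  exact isIso_of_fully_faithful (sheafToPresheaf _ _) _

/-- The functor `F ↦ G F`. -/
abbrev GFun (S : Scheme.{u}) : EtCoh.Ab S ⥤ Sheaf (Jet S) AddCommGrpCat.{u + 1} :=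
  sheafToPresheaf _ _ ⋙ (EtFppf.a S).op.lan ⋙ presheafToSheaf (Jet S) AddCommGrpCat.{u + 1}

theorem hom_ext_e {S : Scheme.{u}} {F : EtCoh.Ab S} {H : Sheaf (Jet S) AddCommGrpCat.{u + 1}} {a b : G F ⟶ H}
    (h : ∀ (V : Over S) (U : S.Etale) (c : V ⟶ (EtFppf.a S).obj U) (s : F.obj.obj (op U)),
      a.hom.app (op V) (e F c s) = b.hom.app (op V) (e F c s)) : a = b := by
  refine Sheaf.hom_ext (sheafify_hom_ext (Jet S) _ _ H.property (NatTrans.ext (funext fun V =>
    ConcreteCategory.hom_ext _ _ fun z => ?_)))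
  obtain ⟨U, c, s, rfl⟩ := el_surj F (T := V.unop) z
  exact h V.unop U c s

theorem GFun_map_e {S : Scheme.{u}} {F F' : EtCoh.Ab S} (φ : F ⟶ F') {V : Over S} {U : S.Etale}
    (c : V ⟶ (EtFppf.a S).obj U) (s : F.obj.obj (op U)) :
    ((GFun S).map φ).hom.app (op V) (e F c s) = e F' c (φ.hom.app (op U) s) := by
  have h₁ := ConcreteCategory.congr_hom (congrArg (fun k => NatTrans.app k (op V))
    (toSheafify_naturality (Jet S) ((EtFppf.a S).op.lan.map φ.hom))) (el F c s)
  refine h₁.symm.trans (congrArg ((toSheafify (Jet S) (L F')).app (op V)) ?_)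
  have h₂ := ConcreteCategory.congr_hom (congrArg (fun k => NatTrans.app k (op U))
    ((EtFppf.a S).op.lanUnit.naturality φ.hom)) s
  refine (NatTrans.naturality_apply ((EtFppf.a S).op.lan.map φ.hom) c.op _).trans ?_
  exact congrArg ((L F').map c.op) h₂.symm

/-- The comparison as a natural transformation. -/
def cmpNat : EtCoh.push f ⋙ GFun S ⟶ GFun T ⋙ BigSite.pushBig Ke f AddCommGrpCat.{u + 1} where
  app F := cmp f F
  naturality F F' φ := hom_ext_e fun V U c s => by
    show (cmp f F').hom.app (op V) (((GFun S).map ((EtCoh.push f).map φ)).hom.app (op V) (e _ c s)) =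
      ((GFun T).map φ).hom.app (op ((Over.pullback f).obj V)) ((cmp f F).hom.app (op V) (e _ c s))
    rw [GFun_map_e, cmp_e, cmp_e]
    exact (GFun_map_e φ _ _).symm

/-- Inverse image to the big site commutes with proper direct images. -/
def pushPiIso [IsProper f] : EtCoh.push f ⋙ BigSite.piEtPull Ke S ≅
    BigSite.piEtPull Ke T ⋙ BigSite.pushBig Ke f AddCommGrpCat.{u + 1} :=
  haveI : ∀ F, IsIso ((cmpNat f).app F) := fun F => isIso_cmp_of_isProper f F
  Functor.isoWhiskerLeft (EtCoh.push f)
      (Functor.sheafPullbackConstruction.sheafPullbackIso (EtFppf.a S) AddCommGrpCat.{u + 1}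
        S.smallEtaleTopology (QuotSh.J Ke S)) ≪≫
    @asIso _ _ _ _ (cmpNat f) (NatIso.isIso_of_isIso_app _) ≪≫
    Functor.isoWhiskerRight (Functor.sheafPullbackConstruction.sheafPullbackIso (EtFppf.a T) AddCommGrpCat.{u + 1}
        T.smallEtaleTopology (QuotSh.J Ke T)).symm (BigSite.pushBig Ke f AddCommGrpCat.{u + 1})

/-- The restriction of the inverse image to a small site. -/
def resAlongPiIso {T' : Scheme.{u}} (g : T' ⟶ T) (F : EtCoh.Ab T) :
    (BigSite.resEtAlong Ke g).obj ((BigSite.piEtPull Ke T).obj F) ≅ (EtCoh.pull g).obj F :=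
  haveI := isIso_theta g F
  let α : (BigSite.resEtAlong Ke g).obj (G F) ≅ GT g F :=
    (fullyFaithfulSheafToPresheaf _ _).preimageIso (Iso.refl _)
  (BigSite.resEtAlong Ke g).mapIso (piEtPullGIso F) ≪≫ α ≪≫ (asIso (theta g F)).symm

/-- Vanishing of higher direct images passes to the big site. -/
theorem rAcyclic_piEtPull [IsProper f] (M : EtCoh.Ab T) (hM : EtCoh.IsTorsion M)
    (h : L17.GrothSS.RAcyclic (EtCoh.push f) M) :
    L17.GrothSS.RAcyclic (BigSite.pushBig Ke f AddCommGrpCat.{u + 1}) ((BigSite.piEtPull Ke T).obj M) := by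
  intro r hr
  let P := (BigSite.RpushBig Ke f r).obj ((BigSite.piEtPull Ke T).obj M)
  show IsZero P
  rw [IsZero.iff_id_eq_zero]
  refine Sheaf.hom_ext (NatTrans.ext (funext fun V => ConcreteCategory.hom_ext _ _ fun x => ?_))
  let g := V.unop.hom
  have hsq : IsPullback (pullback.fst f g) (pullback.snd f g) f g := IsPullback.of_hasPullback f g
  obtain ⟨α⟩ := nonempty_resEtAlong_Rpush f g (pullback.fst f g) (pullback.snd f g) hsq
    ((BigSite.piEtPull Ke T).obj M) r
  have h0 : IsZero ((BigSite.resEtAlong Ke g).obj P) :=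
    ((L27.PBC.isZero_Rpush_baseChange f hsq M hM r (h r hr)).of_iso
      ((EtCoh.Rpush (pullback.snd f g) r).mapIso (resAlongPiIso (pullback.fst f g) M))).of_iso α
  have h0' := (sheafSections _ AddCommGrpCat.{u + 1} |>.obj (op (EtCoh.top V.unop.left))).map_isZero h0
  haveI : Subsingleton (P.obj.obj (op ((cT g).obj (EtCoh.top V.unop.left)))) :=
    AddCommGrpCat.subsingleton_of_isZero h0'
  let i : (cT g).obj (EtCoh.top V.unop.left) ≅ V.unop :=
    Over.isoMk (Iso.refl _) ((Category.id_comp g).trans (Category.id_comp g).symm)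
  haveI : Subsingleton (P.obj.obj V) :=
    (P.obj.mapIso i.op).addCommGroupIsoToAddEquiv.toEquiv.subsingleton
  exact Subsingleton.elim _ _

theorem nonempty_piEtPull_Rpush [IsProper f] (F : EtCoh.Ab T) (hF : EtCoh.IsTorsion F) (q : ℕ) :
    Nonempty ((BigSite.piEtPull Ke S).obj ((EtCoh.Rpush f q).obj F) ≅
      (BigSite.RpushBig Ke f q).obj ((BigSite.piEtPull Ke T).obj F)) := by
  haveI : PreservesFiniteLimits (EtCoh.push f) :=
    haveI := (EtCoh.pullPushAdj f).rightAdjoint_preservesLimits
    inferInstance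
  haveI : PreservesFiniteLimits (BigSite.pushBig Ke f AddCommGrpCat.{u + 1}) :=
    haveI := (BigSite.bigAdj Ke f AddCommGrpCat.{u + 1}).rightAdjoint_preservesLimits
    inferInstance
  haveI := preservesFiniteLimits_piEtPull Ke S
  haveI := preservesFiniteLimits_piEtPull Ke T
  haveI : (BigSite.piEtPull Ke T).Additive := (BigSite.piEtAdj Ke T).left_adjoint_additive
  haveI : (BigSite.piEtPull Ke S).Additive := (BigSite.piEtAdj Ke S).left_adjoint_additive
  let I := injectiveResolution F
  let K := L27.PBC.torCx I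
  haveI := L27.PBC.quasiIso_torAug hF I
  have hT : ∀ n, EtCoh.IsTorsion (K.X n) := fun n =>
    L27.AffineEfface.isTorsion_of_isLTorsion (L27.CompTransfer.isLTorsion_tor Set.univ _)
  have h₁ : ∀ n, L17.GrothSS.RAcyclic (EtCoh.push f) (K.X n) := fun n r hr => by
    haveI := I.injective n
    exact L27.CompTransfer.isZero_Rpush_of_acyc f _ (L27.CompTransfer.acyc_tor Set.univ (I.cocomplex.X n)) r hr
  let aug := RDer.mapAug (BigSite.piEtPull Ke T) (L27.PBC.torAug hF I)
  haveI : QuasiIso aug := by
    haveI : (BigSite.piEtPull Ke T).PreservesHomology := inferInstance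
    haveI := HomologicalComplex.quasiIso_map_of_preservesHomology (L27.PBC.torAug hF I) (BigSite.piEtPull Ke T)
    dsimp only [aug, RDer.mapAug]
    infer_instance
  obtain ⟨a⟩ := nonempty_rightDerived_of_acyclic (EtCoh.push f) F K (L27.PBC.torAug hF I) h₁ q
  obtain ⟨b⟩ := nonempty_rightDerived_of_acyclic (BigSite.pushBig Ke f AddCommGrpCat.{u + 1})
    ((BigSite.piEtPull Ke T).obj F) (((BigSite.piEtPull Ke T).mapHomologicalComplex _).obj K) aug
    (fun n => rAcyclic_piEtPull f (K.X n) (hT n) (h₁ n)) q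
  let e : ((BigSite.piEtPull Ke S).mapHomologicalComplex (ComplexShape.up ℕ)).obj
      (((EtCoh.push f).mapHomologicalComplex _).obj K) ≅
      ((BigSite.pushBig Ke f AddCommGrpCat.{u + 1}).mapHomologicalComplex (ComplexShape.up ℕ)).obj
        (((BigSite.piEtPull Ke T).mapHomologicalComplex _).obj K) :=
    HomologicalComplex.Hom.isoOfComponents (fun n => (pushPiIso f).app (K.X n))
      (fun n m _ => ((pushPiIso f).hom.naturality (K.d n m)).symm)
  exact ⟨(BigSite.piEtPull Ke S).mapIso a ≪≫
    (((((EtCoh.push f).mapHomologicalComplex (ComplexShape.up ℕ)).obj K).sc q).mapHomologyIso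
      (BigSite.piEtPull Ke S)).symm ≪≫ HomologicalComplex.homologyMapIso e q ≪≫ b.symm⟩

end

end Groth.L23.Big
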