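import Groth.Agent.L27.Fppf.Pull
import Groth.Agent.L27.Fppf.ProEtTop
import Groth.Prelude.Def_BigSite
import Groth.Agent.L23.BigSite.Exactness
import Mathlib.CategoryTheory.Sites.Pullback

/-!
# Sections of the inverse image on the big étale site
-/

universe u

open CategoryTheory Limits AlgebraicGeometry Opposite

set_option backward.isDefEq.respectTransparency.types false
set_option linter.style.haveILetI false

namespace Groth.L23.Big

open Groth.L27.Fppf

noncomputable section

variable {S : Scheme.{u}} (F : EtCoh.Ab S)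

/-- The inverse image is the sheafified left Kan extension. -/
def piEtPullGIso : (BigSite.piEtPull Scheme.etalePrecoverage S).obj F ≅ G F :=
  (Functor.sheafPullbackConstruction.sheafPullbackIso (EtFppf.a S) AddCommGrpCat.{u + 1}
    S.smallEtaleTopology (QuotSh.J Scheme.etalePrecoverage S)).app F

theorem nonempty_sections_iso_etale (T : Over S) :
    Nonempty (((BigSite.piEtPull Scheme.etalePrecoverage S).obj F).obj.obj (op T) ≅
      ((EtCoh.pull T.hom).obj F).obj.obj (op (EtCoh.top T.left))) := by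
  haveI := isIso_theta T.hom F
  let i : (cT T.hom).obj (EtCoh.top T.left) ≅ T := Over.isoMk (Iso.refl _)
    ((Category.id_comp T.hom).trans (Category.id_comp T.hom).symm)
  exact ⟨((sheafToPresheaf _ _).mapIso (piEtPullGIso F)).app (op T) ≪≫ (G F).obj.mapIso i.op ≪≫
    (((sheafToPresheaf _ _).mapIso (asIso (theta T.hom F))).app (op (EtCoh.top T.left))).symm⟩

theorem isSubmersiveSieve_fpqc {T : Over S} {R : Sieve T}
    (hR : R ∈ QuotSh.J Scheme.fpqcPrecoverage S T) : IsSubmersiveSieve R := by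
  change R ∈ (Scheme.fpqcPrecoverage.toGrothendieck).over S T at hR
  rw [GrothendieckTopology.mem_over_iff, Precoverage.mem_toGrothendieck_iff_of_isStableUnderComposition] at hR
  obtain ⟨R₀, hfpqc, hle⟩ := hR
  rw [Scheme.fpqcPrecoverage, Scheme.propQCPrecoverage] at hfpqc
  obtain ⟨hqc, hP⟩ := hfpqc
  obtain ⟨𝒰, rfl⟩ := R₀.exists_eq_preZeroHypercover
  haveI : QuasiCompactCover 𝒰 := by simpa using hqc
  obtain ⟨hsurj, hflat⟩ := (Scheme.presieve₀_mem_precoverage_iff _).1 hP
  have hmem : ∀ i, R (Over.homMk (𝒰.f i) rfl : Over.mk (𝒰.f i ≫ T.hom) ⟶ T) := fun i =>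
    (Sieve.overEquiv_iff R _).1 (hle _ _ ⟨i⟩)
  exact ⟨fun t => by
    obtain ⟨i, y, hy⟩ := hsurj t
    exact ⟨_, _, y, hmem i, hy⟩, fun W hW => isOpen_of_qcCover 𝒰 hflat W fun i => hW _ _ (hmem i)⟩

theorem isSheaf_fpqc_piEtPull :
    Presheaf.IsSheaf (QuotSh.J Scheme.fpqcPrecoverage S) ((BigSite.piEtPull Scheme.etalePrecoverage S).obj F).obj :=
  (Presheaf.isSheaf_of_iso_iff ((sheafToPresheaf _ _).mapIso (piEtPullGIso F))).2
    (isSheaf_of_submersive fun _ _ h => isSubmersiveSieve_fpqc h)

theorem nonempty_HU_piEtPull {T : Scheme.{u}} (f : T ⟶ S) (n : ℕ) :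
    Nonempty (BigSite.HU Scheme.etalePrecoverage ((BigSite.piEtPull Scheme.etalePrecoverage S).obj F) n (Over.mk f) ≃+
      EtCoh.H T ((EtCoh.pull f).obj F) n) := by
  haveI := isIso_theta f F
  obtain ⟨e⟩ := nonempty_H_resEt T
    ((BigSite.pullBig Scheme.etalePrecoverage f AddCommGrpCat.{u + 1}).obj
      ((BigSite.piEtPull Scheme.etalePrecoverage S).obj F)) n
  let α : (BigSite.resEtAlong Scheme.etalePrecoverage f).obj (G F) ≅ GT f F :=
    (fullyFaithfulSheafToPresheaf _ _).preimageIso (Iso.refl _)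
  let β := (BigSite.resEtAlong Scheme.etalePrecoverage f).mapIso (piEtPullGIso F) ≪≫ α ≪≫ (asIso (theta f F)).symm
  exact ⟨e.symm.trans
    { toFun := fun x => x.comp (Abelian.Ext.mk₀ β.hom) (add_zero n)
      invFun := fun x => x.comp (Abelian.Ext.mk₀ β.inv) (add_zero n)
      left_inv := fun x => by simp
      right_inv := fun x => by simp
      map_add' := fun x y => Abelian.Ext.add_comp _ _ _ _ }⟩

end

end Groth.L23.Big
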