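import Groth.Agent.L02.An.LanFlat
import Groth.Agent.L15.ExtZero.ExtAdj
import Groth.Agent.L27.Hom.ExtAdj
import Groth.Agent.L27.Fppf.Elem
import Groth.Agent.L23.BigCech.Resolution
import Groth.Prelude.Def_BigSite
import Mathlib.Algebra.Category.Grp.AB

/-!
# The small Zariski site inside big sites
-/

universe u

open CategoryTheory Limits AlgebraicGeometry Opposite TopologicalSpace

set_option backward.isDefEq.respectTransparency.types false
set_option linter.style.haveILetI false

namespace Groth.L23.Zar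

noncomputable section

variable (S : Scheme.{u})

theorem zarIncl_hom_ext {V : Over S} {U : S.Opens} (p q : V ⟶ (BigSite.zarIncl S).obj U) : p = q := by
  refine Over.OverMorphism.ext ?_
  exact (cancel_mono U.ι).1 ((Over.w p).trans (Over.w q).symm)

/-- A lift through the inclusion of an open. -/
abbrev liftOpen {Z : Scheme.{u}} (m : Z ⟶ S) (U : S.Opens) (h : Set.range m ⊆ (U : Set S)) : Z ⟶ (U : Scheme.{u}) :=
  IsOpenImmersion.lift U.ι m (h.trans (Scheme.Opens.range_ι U).ge)

theorem liftOpen_fac {Z : Scheme.{u}} (m : Z ⟶ S) (U : S.Opens) (h : Set.range m ⊆ (U : Set S)) :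
    liftOpen S m U h ≫ U.ι = m :=
  IsOpenImmersion.lift_fac _ _ _

/-- A factorization through an open. -/
theorem exists_lift_zarIncl {V : Over S} {U : S.Opens} (h : Set.range V.hom ⊆ (U : Set S)) :
    Nonempty (V ⟶ (BigSite.zarIncl S).obj U) :=
  ⟨Over.homMk (U := V) (V := (BigSite.zarIncl S).obj U)
    (liftOpen S V.hom U h) (liftOpen_fac S V.hom U h)⟩

theorem range_subset {V : Over S} {U : S.Opens} (p : V ⟶ (BigSite.zarIncl S).obj U) :
    Set.range V.hom ⊆ (U : Set S) := by
  rintro _ ⟨v, rfl⟩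
  rw [← Over.w p]
  exact (Scheme.Hom.comp_apply p.left U.ι v).symm ▸ (p.left v).2

instance zarIncl_flat : RepresentablyFlat (BigSite.zarIncl S) where
  cofiltered V := by
    haveI : Nonempty (StructuredArrow V (BigSite.zarIncl S)) :=
      ⟨StructuredArrow.mk (exists_lift_zarIncl S (V := V) (U := ⊤) fun _ _ => trivial).some⟩
    haveI : IsCofilteredOrEmpty (StructuredArrow V (BigSite.zarIncl S)) :=
      { cone_objs := fun a b =>
          ⟨StructuredArrow.mk (exists_lift_zarIncl S (V := V) (U := a.right ⊓ b.right)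
              fun x hx => ⟨range_subset S a.hom hx, range_subset S b.hom hx⟩).some,
            StructuredArrow.homMk (homOfLE inf_le_left) (zarIncl_hom_ext S _ _),
            StructuredArrow.homMk (homOfLE inf_le_right) (zarIncl_hom_ext S _ _), trivial⟩
        cone_maps := fun {a b} i j => ⟨a, 𝟙 a, by
          simp only [Category.id_comp]
          exact StructuredArrow.hom_ext _ _ (Subsingleton.elim _ _)⟩ }
    constructor

variable (K : Precoverage Scheme.{u}) [BigSite.ZarCont K S]

theorem preservesFiniteLimits_piZarPull : PreservesFiniteLimits (BigSite.piZarPull K S) := by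
  haveI : Small.{u + 1} S.Opens := small_lift.{u, u, u + 1} S.Opens
  haveI := Groth.L02.An.lan_preservesFiniteLimits.{u + 1} (BigSite.zarIncl S)
  exact Functor.sheafPullbackConstruction.preservesFiniteLimits (BigSite.zarIncl S) AddCommGrpCat.{u + 1}
    (Opens.grothendieckTopology S) (QuotSh.J K S)

theorem preservesFiniteColimits_piZarPull : PreservesFiniteColimits (BigSite.piZarPull K S) :=
  haveI := (BigSite.piZarAdj K S).leftAdjoint_preservesColimits
  inferInstance

/-- The image of the whole space is terminal. -/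
def zarTopTerminal : IsTerminal ((BigSite.zarIncl S).obj ⊤) :=
  Over.mkIdTerminal.ofIso (Over.isoMk S.topIso (Category.comp_id _) : (BigSite.zarIncl S).obj ⊤ ≅ Over.mk (𝟙 S)).symm

/-- The top open is terminal. -/
def opensTopTerminal : IsTerminal (⊤ : S.Opens) :=
  IsTerminal.ofUniqueHom (fun _ => homOfLE le_top) (fun _ _ => Subsingleton.elim _ _)

/-- The inverse image of a constant sheaf is constant. -/
def piZarPullConstIso :
    constantSheaf (Opens.grothendieckTopology S) AddCommGrpCat.{u + 1} ⋙ BigSite.piZarPull K S ≅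
      constantSheaf (QuotSh.J K S) AddCommGrpCat.{u + 1} :=
  Adjunction.leftAdjointUniq
    (((constantSheafAdj (Opens.grothendieckTopology S) AddCommGrpCat.{u + 1} (opensTopTerminal S)).comp
      (BigSite.piZarAdj K S)).ofNatIsoRight (NatIso.ofComponents (fun _ => Iso.refl _)))
    (constantSheafAdj (QuotSh.J K S) AddCommGrpCat.{u + 1} (zarTopTerminal S))

/-- Cohomology is unchanged when the higher derived restrictions vanish. -/
theorem nonempty_H_resZar (F : BigSite.Ab K S)
    (hF : ∀ q : ℕ, 0 < q → IsZero (((BigSite.resZar K S).rightDerived q).obj F)) (p : ℕ) :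
    Nonempty (EtZar.H ((BigSite.resZar K S).obj F) p ≃+ BigSite.H K S F p) := by
  haveI := preservesFiniteLimits_piZarPull S K
  haveI := preservesFiniteColimits_piZarPull S K
  haveI : (BigSite.piZarPull K S).Additive := (BigSite.piZarAdj K S).left_adjoint_additive
  haveI : PreservesFiniteLimits (BigSite.resZar K S) :=
    haveI := (BigSite.piZarAdj K S).rightAdjoint_preservesLimits
    inferInstance
  let Z := AddCommGrpCat.of (ULift.{u + 1} ℤ)
  let A := (constantSheaf (Opens.grothendieckTopology S) AddCommGrpCat.{u + 1}).obj Z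
  let c := (piZarPullConstIso S K).app Z
  have hb := Groth.L27.ExtAdj.bijective_phi.{u + 1, u + 1} (BigSite.piZarAdj K S) (A := A) p F hF
  let e₁ : EtZar.H ((BigSite.resZar K S).obj F) p ≃+ Abelian.Ext.{u + 1} ((BigSite.piZarPull K S).obj A) F p :=
    AddEquiv.ofBijective
      (AddMonoidHom.mk' (Groth.L27.ExtAdj.phi.{u + 1, u + 1} (BigSite.piZarAdj K S) A F p) (fun x y => by
        rw [Groth.L27.ExtAdj.phi, Abelian.Ext.mapExactFunctor_add, Abelian.Ext.add_comp]
        rfl)) hb
  exact ⟨e₁.trans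
    { toFun := fun x => (Abelian.Ext.mk₀ c.inv).comp x (zero_add p)
      invFun := fun x => (Abelian.Ext.mk₀ c.hom).comp x (zero_add p)
      left_inv := fun x => by
        show (Abelian.Ext.mk₀ c.hom).comp ((Abelian.Ext.mk₀ c.inv).comp x (zero_add p)) (zero_add p) = x
        simp only [Abelian.Ext.mk₀_comp_mk₀_assoc, Iso.hom_inv_id]
        exact Abelian.Ext.mk₀_id_comp x
      right_inv := fun x => by
        show (Abelian.Ext.mk₀ c.inv).comp ((Abelian.Ext.mk₀ c.hom).comp x (zero_add p)) (zero_add p) = x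
        simp only [Abelian.Ext.mk₀_comp_mk₀_assoc, Iso.inv_hom_id]
        exact Abelian.Ext.mk₀_id_comp x
      map_add' := fun x y => Abelian.Ext.comp_add _ _ _ _ }⟩

section BigZariski

local notation "Kz" => Scheme.zariskiPrecoverage

instance zarIncl_isCocontinuous :
    (BigSite.zarIncl S).IsCocontinuous (Opens.grothendieckTopology S) (QuotSh.J Kz S) where
  cover_lift {U} R hR := by
    intro x hx
    obtain ⟨Y, g, y, hg, hgo, hy⟩ := (Groth.L27.Fppf.mem_grothendieck (P := @IsOpenImmersion)).1 hR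
      (⟨x, hx⟩ : ((BigSite.zarIncl S).obj U).left)
    haveI : IsOpenImmersion g.left := hgo
    haveI : IsOpenImmersion Y.hom := by
      rw [← Over.w g]
      let g' : Y.left ⟶ (U : Scheme.{u}) := g.left
      haveI : IsOpenImmersion g' := hgo
      exact inferInstanceAs (IsOpenImmersion (g' ≫ U.ι))
    let W : S.Opens := Y.hom.opensRange
    have hWU : W ≤ U := by
      intro z hz
      exact range_subset S g hz
    refine ⟨W, homOfLE hWU, ?_, ⟨y, ?_⟩⟩
    · show R.arrows ((BigSite.zarIncl S).map (homOfLE hWU))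
      let l : (BigSite.zarIncl S).obj W ⟶ Y :=
        Over.homMk (U := (BigSite.zarIncl S).obj W) (V := Y)
          (IsOpenImmersion.lift Y.hom W.ι (Scheme.Opens.range_ι W).le : (W : Scheme.{u}) ⟶ Y.left)
          (IsOpenImmersion.lift_fac Y.hom W.ι (Scheme.Opens.range_ι W).le)
      rw [zarIncl_hom_ext S ((BigSite.zarIncl S).map (homOfLE hWU)) (l ≫ g)]
      exact R.downward_closed hg l
    · rw [← Over.w g]
      exact (Scheme.Hom.comp_apply g.left U.ι y).trans (congrArg U.ι hy)

theorem nonempty_H_resZar_zariski [BigSite.ZarCont Kz S] (F : BigSite.Ab Kz S) (p : ℕ) :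
    Nonempty (EtZar.H ((BigSite.resZar Kz S).obj F) p ≃+ BigSite.H Kz S F p) := by
  haveI : PreservesFiniteColimits (BigSite.resZar Kz S) :=
    haveI := ((BigSite.zarIncl S).sheafAdjunctionCocontinuous AddCommGrpCat.{u + 1} (Opens.grothendieckTopology S)
      (QuotSh.J Kz S)).leftAdjoint_preservesColimits
    inferInstance
  haveI : PreservesFiniteLimits (BigSite.resZar Kz S) :=
    haveI := (BigSite.piZarAdj Kz S).rightAdjoint_preservesLimits
    inferInstance
  refine nonempty_H_resZar S Kz F (fun q hq => ?_) p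
  let I := InjectiveResolution.of F
  refine IsZero.of_iso ?_ (I.isoRightDerivedObj (BigSite.resZar Kz S) q)
  obtain ⟨q, rfl⟩ := Nat.exists_eq_succ_of_ne_zero hq.ne'
  rw [HomologicalComplex.homologyFunctor_obj, ← HomologicalComplex.exactAt_iff_isZero_homology]
  exact (I.cocomplex_exactAt_succ q).map (BigSite.resZar Kz S)

end BigZariski

section Fppf

open Groth.L23.BigCech

local notation "Kf" => Scheme.fppfPrecoverage

variable [BigSite.ZarCont Kf S] {F : BigSite.Ab Kf S}

theorem epi_resZar_g {T : ShortComplex (BigSite.Ab Kf S)} (hT : T.ShortExact) (h₁ : Acyc T.X₁) :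
    Epi ((BigSite.resZar Kf S).map T.g) := by
  suffices h : Sheaf.IsLocallySurjective ((BigSite.resZar Kf S).map T.g) from
    @Sheaf.epi_of_isLocallySurjective _ _ _ _ _ _ _ _ _ _ _ _ _ h
  refine ⟨fun {U} x t ht => ?_⟩
  obtain ⟨W, hW, htW, hWU⟩ := exists_isAffineOpen_mem_and_subset (show t ∈ U from ht)
  haveI : IsAffine ((BigSite.zarIncl S).obj W).left := hW
  obtain ⟨y, hy⟩ := surjective_affine hT h₁ ((BigSite.zarIncl S).obj W)
    (T.X₃.obj.map ((BigSite.zarIncl S).map (homOfLE hWU)).op x)
  exact ⟨W, homOfLE hWU, ⟨y, hy⟩, htW⟩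

variable (Res : InjectiveResolution F)

/-- The sequence of cycles. -/
abbrev abCyc (n : ℕ) : ShortComplex (BigSite.Ab Kf S) :=
  ShortComplex.mk (kernel.ι (Res.cocomplex.d n (n + 1)))
    (kernel.lift (Res.cocomplex.d (n + 1) (n + 2)) (Res.cocomplex.d n (n + 1)) (Res.complex_d_comp n))
    (by rw [← cancel_mono (kernel.ι (Res.cocomplex.d (n + 1) (n + 2))), Category.assoc, kernel.lift_ι,
      kernel.condition, zero_comp])

theorem abCyc_shortExact (n : ℕ) : (abCyc S Res n).ShortExact where
  mono_f := inferInstanceAs (Mono (kernel.ι _))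
  epi_g := (ShortComplex.exact_iff_epi_kernel_lift
    (ShortComplex.mk _ _ (Res.complex_d_comp n))).1 (Res.exact_succ n)
  exact := by
    let φ : abCyc S Res n ⟶
        ShortComplex.mk (kernel.ι (Res.cocomplex.d n (n + 1))) (Res.cocomplex.d n (n + 1)) (kernel.condition _) :=
      { τ₁ := 𝟙 _, τ₂ := 𝟙 _, τ₃ := kernel.ι _
        comm₁₂ := by simp
        comm₂₃ := by simp [kernel.lift_ι] }
    haveI : Epi φ.τ₁ := inferInstanceAs (Epi (𝟙 _))
    haveI : IsIso φ.τ₂ := inferInstanceAs (IsIso (𝟙 _))
    haveI : Mono φ.τ₃ := inferInstanceAs (Mono (kernel.ι _))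
    exact (ShortComplex.exact_iff_of_epi_of_isIso_of_mono φ).2
      (ShortComplex.exact_of_f_is_kernel _ (kernelIsKernel _))

theorem acyc_abCyc (hF : Acyc F) : ∀ n, Acyc (abCyc S Res n).X₁
  | 0 => by
    let e : F ≅ kernel (Res.cocomplex.d 0 1) :=
      IsLimit.conePointUniqueUpToIso Res.isLimitKernelFork (limit.isLimit _)
    intro R c B _ _ _ hB n x hx
    obtain ⟨y, hy⟩ := hF R c B hB n (e.inv.hom.app _ x)
      ((Groth.L28.ProEt.Cech.d_natural (cHom c B) e.inv.hom (n + 1) x).symm.trans
        ((congrArg (e.inv.hom.app _) hx).trans (map_zero _)))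
    refine ⟨e.hom.hom.app _ y, ((Groth.L28.ProEt.Cech.d_natural (cHom c B) e.hom.hom n y).symm.trans
      (congrArg (e.hom.hom.app _) hy)).trans ?_⟩
    exact ConcreteCategory.congr_hom (congrArg (fun k => k.hom.app _) e.inv_hom_id) x
  | n + 1 => acyc_X₃ (abCyc_shortExact S Res n) (fun _ c B _ _ m => isAffine_nerve c B m)
      (acyc_abCyc hF n) (acyc_of_injective (Res.cocomplex.X n))

theorem isZero_RresZar (hF : Acyc F) (q : ℕ) (hq : 0 < q) :
    IsZero (((BigSite.resZar Kf S).rightDerived q).obj F) := by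
  let Res := InjectiveResolution.of F
  let G := BigSite.resZar Kf S
  haveI : PreservesFiniteLimits G :=
    haveI := (BigSite.piZarAdj Kf S).rightAdjoint_preservesLimits
    inferInstance
  refine IsZero.of_iso ?_ (Res.isoRightDerivedObj G q)
  obtain ⟨q, rfl⟩ := Nat.exists_eq_succ_of_ne_zero hq.ne'
  rw [HomologicalComplex.homologyFunctor_obj, ← HomologicalComplex.exactAt_iff_isZero_homology,
    HomologicalComplex.exactAt_iff' _ q (q + 1) (q + 2) (by simp) (by simp)]
  let S₂ : ShortComplex (EtZar.Ab S) :=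
    ShortComplex.mk (G.map (kernel.ι (Res.cocomplex.d (q + 1) (q + 2)))) (G.map (Res.cocomplex.d (q + 1) (q + 2)))
      (by rw [← G.map_comp, kernel.condition, G.map_zero])
  have h₂ : S₂.Exact :=
    (ShortComplex.exact_of_f_is_kernel (ShortComplex.mk _ _ (kernel.condition (Res.cocomplex.d (q + 1) (q + 2))))
      (kernelIsKernel _)).map_of_mono_of_preservesKernel G inferInstance inferInstance
  let φ : ((G.mapHomologicalComplex (ComplexShape.up ℕ)).obj Res.cocomplex).sc' q (q + 1) (q + 2) ⟶ S₂ :=
    { τ₁ := G.map (abCyc S Res q).g, τ₂ := 𝟙 _, τ₃ := 𝟙 _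
      comm₁₂ := by
        show G.map _ ≫ G.map _ = G.map (Res.cocomplex.d q (q + 1)) ≫ 𝟙 _
        rw [Category.comp_id, ← G.map_comp, kernel.lift_ι]
      comm₂₃ := (Category.id_comp _).trans (Category.comp_id _).symm }
  haveI : Epi φ.τ₁ := epi_resZar_g S (abCyc_shortExact S Res q) (acyc_abCyc S Res hF q)
  haveI : IsIso φ.τ₂ := inferInstanceAs (IsIso (𝟙 _))
  haveI : Mono φ.τ₃ := inferInstanceAs (Mono (𝟙 _))
  exact (ShortComplex.exact_iff_of_epi_of_isIso_of_mono φ).2 h₂

theorem nonempty_H_resZar_adequate (M : BigSite.Mod Kf S) (hM : Adeq.adequateMod Kf S M) (q : ℕ) :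
    Nonempty (EtZar.H ((BigSite.resZar Kf S).obj ((BigSite.toAbMod Kf S).obj M)) q ≃+ BigSite.HMod Kf S M q) :=
  nonempty_H_resZar S Kf _ (fun i hi => isZero_RresZar S (acyc_adequate M hM) i hi) q

end Fppf

end

end Groth.L23.Zar
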